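import Groth.Agent.Lib.EtPush14.Stalk
import Groth.Agent.Lib.AlgSpEt.Sections
import Groth.Agent.Lib.AlgSpace.PointsBC

/-! The essential image of direct image along an integral universally injective morphism. -/

universe w u v₁ u₁ v₂ u₂ v₃ u₃

open CategoryTheory CategoryTheory.Limits AlgebraicGeometry Opposite

set_option linter.style.haveILetI false
set_option backward.isDefEq.respectTransparency false
set_option backward.isDefEq.respectTransparency.types false

namespace Groth.Agent.EtPush14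

/-- a functor with right adjoint valued in a reflective subcategory inverts the unit -/
theorem isIso_map_unit {C : Type u₁} [Category.{v₁} C] {D : Type u₂} [Category.{v₂} D] {E : Type u₃} [Category.{v₃} E]
    {L : C ⥤ D} {R : D ⥤ C} (adj : L ⊣ R) [R.Full] [R.Faithful] {L' : C ⥤ E} {R' : E ⥤ C} (adj' : L' ⊣ R')
    (hR : ∀ M, R.essImage (R'.obj M)) (G : C) : IsIso (L'.map (adj.unit.app G)) := by
  have key : ∀ M, Function.Bijective fun g : L'.obj (R.obj (L.obj G)) ⟶ M => L'.map (adj.unit.app G) ≫ g := fun M => by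
    obtain ⟨K, ⟨e⟩⟩ := hR M
    let a : (L'.obj (R.obj (L.obj G)) ⟶ M) ≃ (L.obj G ⟶ K) :=
      (adj'.homEquiv _ _).trans (e.symm.homToEquiv.trans (Functor.FullyFaithful.ofFullyFaithful R).homEquiv.symm)
    let b : (L'.obj G ⟶ M) ≃ (L.obj G ⟶ K) :=
      (adj'.homEquiv _ _).trans (e.symm.homToEquiv.trans (adj.homEquiv _ _).symm)
    have h : (fun g : L'.obj (R.obj (L.obj G)) ⟶ M => L'.map (adj.unit.app G) ≫ g) = b.symm ∘ a := by
      funext g
      show _ = b.symm (a g)
      rw [Equiv.eq_symm_apply]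
      apply (adj.homEquiv _ _).injective
      simp [a, b, Adjunction.homEquiv_naturality_left, Adjunction.homEquiv_unit (adj := adj)]
      exact ((adj.homEquiv_unit ..).symm.trans ((adj.homEquiv G K).apply_symm_apply _))
    rw [h]; exact b.symm.bijective.comp a.bijective
  obtain ⟨g, hg⟩ := (key _).2 (𝟙 _)
  refine ⟨g, hg, (key _).1 ?_⟩
  simp only [← Category.assoc, hg, Category.id_comp, Category.comp_id]

open AlgSp Groth.Agent.AlgSpace Groth.Agent.AlgSpEt Groth.Agent.AlgSpDecent

variable {S : Scheme.{u}} {Y X : Sp S} {f : Y ⟶ X} (hf : Representable f)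

theorem nonempty_unique_of_isEmpty {F : EtSh X (Type (u + 1))} (E : EtOver X) [IsEmpty ↥E.obj.left.left] :
    Nonempty (Unique (F.obj.obj (op E))) := by
  have h : (⊥ : Sieve E) ∈ etTop X E := mem_etTop_of_lifts _ fun p _ l => (IsEmpty.false (liftPt p l)).elim
  obtain ⟨t, -, ht⟩ := ((isSheaf_iff_isSheaf_of_type _ _).1 F.property) (⊥ : Sieve E) h
    (fun Z g hg => False.elim hg) (fun _ _ _ _ _ _ _ h₁ => False.elim h₁)
  exact ⟨⟨⟨t⟩, fun s => ht s fun Z g hg => False.elim hg⟩⟩

/-- the sections over etale schemes away from the image are singletons -/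
def SupportedOnImage (f : Y ⟶ X) (G : EtSh X (Type (u + 1))) : Prop :=
  ∀ E : EtOver X, Disjoint (Set.range (Points.map E.obj.hom)) (Set.range (Points.map f)) →
    Nonempty (Unique (G.obj.obj (op E)))

theorem isEmpty_bc (E : EtOver X) (h : Disjoint (Set.range (Points.map E.obj.hom)) (Set.range (Points.map f))) :
    IsEmpty ↥((EtOver.bc hf).obj E).obj.left.left :=
  ⟨fun w => Set.disjoint_left.1 h ⟨Points.ofScheme _ ((EtOver.bcπ hf E).left w),
      ((ofPt_sq (EtOver.isPullback_bcObj hf E).w w).trans (Points.ofPt_eq_map_ofScheme _ _)).symm⟩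
    ⟨_, rfl⟩⟩

theorem supportedOnImage_push (F : EtSh Y (Type (u + 1))) :
    SupportedOnImage f ((pushEt hf (Type (u + 1))).obj F) := fun E h =>
  haveI := isEmpty_bc hf E h
  nonempty_unique_of_isEmpty (F := F) ((EtOver.bc hf).obj E)

theorem supportedOnImage_of_iso {G G' : EtSh X (Type (u + 1))} (e : G' ≅ G) (h : SupportedOnImage f G') :
    SupportedOnImage f G := fun E hE => by
  obtain ⟨i⟩ := h E hE
  exact ⟨@Equiv.unique _ _ i (Iso.toEquiv ((((sheafToPresheaf _ _).mapIso e).app (op E)).symm))⟩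

theorem subsingleton_stalk (hX : IsAlgSpace X) (h : IsIntUI hf) {G : EtSh X (Type (u + 1))}
    (hG : SupportedOnImage f G) (p : FieldPt X) (hp : p.IsGeometric)
    (hpf : Points.mk p ∉ Set.range (Points.map f)) :
    Subsingleton (stalkEt p G) ∧ Nonempty (stalkEt p G) := by
  have shrink : ∀ N : EtNbhd p, ∃ (N' : EtNbhd p) (_ : N' ⟶ N), Nonempty (Unique (G.obj.obj (op N'.1))) := fun N => by
    let E := N.1
    haveI := (h E).1
    let O : E.obj.left.left.Opens :=
      ⟨(Set.range (EtOver.bcπ hf E).left)ᶜ, (EtOver.bcπ hf E).left.isClosedMap.isClosed_range.isOpen_compl⟩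
    let j : (Over.mk (O.ι ≫ E.obj.left.hom) : Over S) ⟶ E.obj.left := Over.homMk O.ι rfl
    let E' : EtOver X := EtOver.mk ((yon S).map j ≫ E.obj.hom) (repWith_etale_restrict E.property O)
    let g : E' ⟶ E := EtOver.homMk j rfl
    have hd : Disjoint (Set.range (Points.map E'.obj.hom)) (Set.range (Points.map f)) := by
      rw [Set.disjoint_left]
      rintro _ ⟨x, rfl⟩ ⟨y, hy⟩
      obtain ⟨t, rfl⟩ := (Points.schemeEquiv _).surjective x
      obtain ⟨w, -, hw⟩ := exists_pt_of_isPullback (EtOver.isPullback_bcObj hf E) (x := y) (t := j.left t)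
        (hy.trans ((Points.ofPt_eq_map_ofScheme _ _).symm.trans (ofPt_map_comp _ _ _)))
      exact t.2 ⟨w, hw⟩
    have hmem : liftPt p N.2 ∈ O := fun ⟨w, hw⟩ => hpf ⟨Points.ofPt (EtOver.bcObj hf E).obj.hom w, by
      rw [← ofPt_liftPt p N.2, ← hw]
      exact ofPt_sq (EtOver.isPullback_bcObj hf E).w w⟩
    obtain ⟨l', hl', -⟩ := exists_lift_map p hp g N.2 (⟨_, hmem⟩ : O) rfl
    exact ⟨⟨E', l'⟩, ⟨g, hl'⟩, hG E' hd⟩
  haveI := isCofiltered_etNbhd hX p hp
  constructor
  · constructor
    intro a b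
    obtain ⟨N₁, s₁, rfl⟩ := exists_stalkEtι_eq hX p hp G a
    obtain ⟨N₂, s₂, rfl⟩ := exists_stalkEtι_eq hX p hp G b
    obtain ⟨M, α, β, -⟩ := IsCofilteredOrEmpty.cone_objs N₁ N₂
    obtain ⟨M', γ, ⟨hu⟩⟩ := shrink M
    have e₁ := ConcreteCategory.congr_hom (colimit.w (stalkEtDiagram p G) (γ ≫ α).op) s₁
    have e₂ := ConcreteCategory.congr_hom (colimit.w (stalkEtDiagram p G) (γ ≫ β).op) s₂
    refine e₁.symm.trans (Eq.trans ?_ e₂)
    exact congrArg (stalkEtι p G M') (@Subsingleton.elim _ (@Unique.instSubsingleton _ hu) _ _)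
  · obtain ⟨N⟩ := IsCofiltered.nonempty (C := EtNbhd p)
    obtain ⟨M, -, ⟨hu⟩⟩ := shrink N
    exact ⟨stalkEtι p G M hu.default⟩

/-- points over algebraically closed fields lift along integral morphisms -/
theorem exists_lift_integral {W E : Scheme.{u}} (b : W ⟶ E) [IsIntegralHom b] {K : Type u} [Field K] [IsAlgClosed K]
    (a : Spec (CommRingCat.of K) ⟶ E) (h : a (IsLocalRing.closedPoint K) ∈ Set.range b) :
    ∃ m : Spec (CommRingCat.of K) ⟶ W, m ≫ b = a := by
  let P := pullback a b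
  haveI : IsIntegralHom (pullback.fst a b) := MorphismProperty.pullback_fst _ _ ‹_›
  haveI : IsAffine P := isAffine_of_isAffineHom (pullback.fst a b)
  obtain ⟨w, hw⟩ := h
  haveI : Nonempty ↥P := by
    obtain ⟨z, -⟩ := Scheme.Pullback.exists_preimage_pullback (f := a) (g := b) _ _ hw.symm
    exact ⟨z⟩
  let φ := Spec.preimage (P.isoSpec.inv ≫ pullback.fst a b)
  have hφ : Spec.map φ = P.isoSpec.inv ≫ pullback.fst a b := Spec.map_preimage _
  have hint : φ.hom.IsIntegral := IsIntegralHom.SpecMap_iff.1 (by rw [hφ]; infer_instance)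
  haveI : Nontrivial Γ(P, ⊤) :=
    PrimeSpectrum.nonempty_iff_nontrivial.1 (Nonempty.map P.isoSpec.hom ‹Nonempty ↥P›)
  obtain ⟨m, hm⟩ := Ideal.exists_maximal Γ(P, ⊤)
  let q : K →+* Γ(P, ⊤) ⧸ m := (Ideal.Quotient.mk m).comp φ.hom
  have hq : q.IsIntegral := RingHom.IsIntegral.trans _ _ hint
    (RingHom.isIntegral_of_surjective _ Ideal.Quotient.mk_surjective)
  letI := Ideal.Quotient.field m
  letI := q.toAlgebra
  haveI : Algebra.IsIntegral K (Γ(P, ⊤) ⧸ m) := ⟨hq⟩
  let e := RingEquiv.ofBijective (algebraMap K (Γ(P, ⊤) ⧸ m))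
    IsAlgClosed.algebraMap_bijective_of_isIntegral
  let ψ : Γ(P, ⊤) ⟶ CommRingCat.of K := CommRingCat.ofHom (e.symm.toRingHom.comp (Ideal.Quotient.mk m))
  have hψ : φ ≫ ψ = 𝟙 _ := by
    ext x
    exact e.symm_apply_apply x
  refine ⟨Spec.map ψ ≫ P.isoSpec.inv ≫ pullback.snd a b, ?_⟩
  rw [Category.assoc, Category.assoc, ← pullback.condition, ← Category.assoc P.isoSpec.inv, ← hφ,
    ← Spec.map_comp_assoc, hψ, Spec.map_id, Category.id_comp]

theorem exists_geometric_preimage (hX : IsAlgSpace X) (h : IsIntUI hf) (p : FieldPt X) (hp : p.IsGeometric)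
    (hpf : Points.mk p ∈ Set.range (Points.map f)) : ∃ z : FieldPt Y, z.IsGeometric ∧ z.map f = p := by
  obtain ⟨E, ⟨l⟩⟩ := exists_chart_lift hX p hp
  obtain ⟨y, hy⟩ := hpf
  obtain ⟨w, -, hw⟩ := exists_pt_of_isPullback (EtOver.isPullback_bcObj hf E) (x := y) (t := liftPt p l)
    (hy.trans (ofPt_liftPt p l).symm)
  haveI := (h E).1
  haveI : IsAlgClosed p.K := hp
  obtain ⟨m, hm⟩ := exists_lift_integral (EtOver.bcπ hf E).left
    (show Spec (CommRingCat.of p.K) ⟶ E.obj.left.left from l.1.left) ⟨w, hw⟩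
  let m' : p.pt ⟶ (EtOver.bcObj hf E).obj.left := Over.homMk m (by
    rw [← Over.w (EtOver.bcπ hf E), reassoc_of% hm]
    exact Over.w l.1)
  have hm' : m' ≫ EtOver.bcπ hf E = l.1 := Over.OverMorphism.ext hm
  let g : (yon S).obj p.pt ⟶ Y := (yon S).map m' ≫ (EtOver.bcObj hf E).obj.hom
  let z : FieldPt Y := ⟨p.K, p.str, (J S).uliftYonedaEquiv g⟩
  have hz : z.toHom = g := (J S).uliftYonedaEquiv.symm_apply_apply _
  refine ⟨z, hp, ?_⟩
  have : (z.map f).toHom = p.toHom := by
    rw [FieldPt.toHom_map, hz, Category.assoc, (EtOver.isPullback_bcObj hf E).w, ← Functor.map_comp_assoc, hm']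
    exact l.2
  exact congrArg (fun v => (⟨p.K, p.str, v⟩ : FieldPt X)) ((J S).uliftYonedaEquiv.symm.injective this)

/-- skyscrapers at image points are direct images -/
theorem skyscraper_mem_essImage {A : Type u₁} [Category.{v₁} A] [HasProducts.{u} A] (hY : IsAlgSpace Y)
    (hX : IsAlgSpace X) (z : FieldPt Y) (hz : z.IsGeometric) (hz' : (z.map f).IsGeometric) (M : A) :
    (pushEt hf A).essImage ((etPoint hX (z.map f) hz').skyscraperSheafFunctor.obj M) := by
  refine ⟨(etPoint hY z hz).skyscraperSheafFunctor.obj M, ⟨?_⟩⟩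
  let θ := fun E => ((liftIso hf z).app E).toEquiv
  refine (fullyFaithfulSheafToPresheaf _ _).preimageIso (NatIso.ofComponents (fun E =>
    { hom := Pi.lift fun v => Pi.π (fun _ => M) (θ E.unop v)
      inv := Pi.lift fun w => Pi.π (fun _ => M) ((θ E.unop).symm w)
      hom_inv_id := Pi.hom_ext _ _ fun w => by
        simp only [Category.assoc, Pi.lift_π, Category.id_comp]
        exact congrArg (Pi.π fun _ => M) ((θ E.unop).apply_symm_apply w)
      inv_hom_id := Pi.hom_ext _ _ fun v => by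
        simp only [Category.assoc, Pi.lift_π, Category.id_comp]
        exact congrArg (Pi.π fun _ => M) ((θ E.unop).symm_apply_apply v) }) fun {E E'} g => ?_)
  refine Pi.hom_ext _ _ fun v => ?_
  have hn : θ E.unop ((FieldPt.liftsTo (z.map f)).map g.unop v) =
      (FieldPt.liftsTo z).map ((EtOver.bc hf).map g.unop) (θ E'.unop v) :=
    congrArg (fun t => t v) ((liftIso hf z).hom.naturality g.unop)
  simp only [GrothendieckTopology.Point.skyscraperSheafFunctor]
  dsimp [etPoint]
  simp only [Category.assoc, Pi.lift_π]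
  simp
  exact congrArg (Pi.π fun _ => M) hn.symm

theorem isIso_of_stalks (hX : IsAlgSpace X) {G G' : EtSh X (Type (u + 1))} (a : G ⟶ G')
    (h : ∀ p : FieldPt X, p.IsGeometric → Function.Bijective ((stalkEtFunctor (Type (u + 1)) p).map a)) :
    IsIso a := by
  haveI := (mono_iff_stalk hX a).2 fun p hp => (h p hp).1
  haveI := (epi_iff_stalk hX a).2 fun p hp => (h p hp).2
  exact isIso_of_mono_of_epi a

theorem bijective_stalk_off_image (hX : IsAlgSpace X) (h : IsIntUI hf) {G G' : EtSh X (Type (u + 1))} (a : G ⟶ G')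
    (hG : SupportedOnImage f G) (hG' : SupportedOnImage f G') (p : FieldPt X) (hp : p.IsGeometric)
    (hpf : Points.mk p ∉ Set.range (Points.map f)) :
    Function.Bijective ((stalkEtFunctor (Type (u + 1)) p).map a) := by
  obtain ⟨h₁, h₂⟩ := subsingleton_stalk hf hX h hG p hp hpf
  obtain ⟨h₃, -⟩ := subsingleton_stalk hf hX h hG' p hp hpf
  exact ⟨fun _ _ _ => h₁.elim _ _, fun y => ⟨h₂.some, h₃.elim _ _⟩⟩

theorem essImage_type_iff (hY : IsAlgSpace Y) (hX : IsAlgSpace X) (h : IsIntUI hf) (G : EtSh X (Type (u + 1))) :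
    (pushEt hf (Type (u + 1))).essImage G ↔ SupportedOnImage f G := by
  refine ⟨fun ⟨F, ⟨e⟩⟩ => supportedOnImage_of_iso e (supportedOnImage_push hf F), fun hG => ?_⟩
  obtain ⟨hfull, hfaith⟩ := pushEt_fullyFaithful hf hX h (Type (u + 1))
  let η := (pullPushAdjEt hf (Type (u + 1))).unit.app G
  have : IsIso η := isIso_of_stalks hX η fun p hp => by
    by_cases hpf : Points.mk p ∈ Set.range (Points.map f)
    · obtain ⟨z, hz, rfl⟩ := exists_geometric_preimage hf hX h p hp hpf
      exact (isIso_iff_bijective _).1 (isIso_map_unit (pullPushAdjEt hf (Type (u + 1)))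
        ((etPoint hX (z.map f) hp).skyscraperSheafAdjunction (A := Type (u + 1)))
        (skyscraper_mem_essImage hf hY hX z hz hp) G)
    · exact bijective_stalk_off_image hf hX h η hG (supportedOnImage_push hf _) p hp hpf
  exact ⟨_, ⟨(asIso η).symm⟩⟩

theorem essImage_ab_iff (hY : IsAlgSpace Y) (hX : IsAlgSpace X) (h : IsIntUI hf) (G : AbEt X) :
    (pushEt hf AddCommGrpCat.{u + 1}).essImage G ↔
      SupportedOnImage f ((sheafCompose (etTop X) (forget AddCommGrpCat.{u + 1})).obj G) := by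
  refine ⟨fun ⟨F, ⟨e⟩⟩ => supportedOnImage_of_iso ((sheafCompose (etTop X) (forget AddCommGrpCat.{u + 1})).mapIso e)
    (supportedOnImage_push hf ((sheafCompose (etTop Y) (forget AddCommGrpCat.{u + 1})).obj F)), fun hG => ?_⟩
  obtain ⟨hfull, hfaith⟩ := pushEt_fullyFaithful hf hX h AddCommGrpCat.{u + 1}
  let η := (pullPushAdjEt hf AddCommGrpCat.{u + 1}).unit.app G
  let η' := (sheafCompose (etTop X) (forget AddCommGrpCat.{u + 1})).map η
  have : IsIso η' := isIso_of_stalks hX η' fun p hp => by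
    by_cases hpf : Points.mk p ∈ Set.range (Points.map f)
    · obtain ⟨z, hz, rfl⟩ := exists_geometric_preimage hf hX h p hp hpf
      let Φ := etPoint hX (z.map f) hp
      haveI := isIso_map_unit (pullPushAdjEt hf AddCommGrpCat.{u + 1})
        (Φ.skyscraperSheafAdjunction (A := AddCommGrpCat.{u + 1}))
        (skyscraper_mem_essImage hf hY hX z hz hp) G
      have : IsIso ((Φ.sheafFiber ⋙ forget AddCommGrpCat.{u + 1}).map η) :=
        Functor.map_isIso (forget AddCommGrpCat.{u + 1}) _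
      exact (isIso_iff_bijective _).1 ((NatIso.isIso_map_iff (Φ.sheafFiberCompIso (forget AddCommGrpCat.{u + 1})) η).2 this)
    · exact bijective_stalk_off_image hf hX h η' hG
        (supportedOnImage_push hf ((sheafCompose (etTop Y) (forget AddCommGrpCat.{u + 1})).obj _)) p hp hpf
  haveI : IsIso η.hom := by
    haveI : ∀ E, IsIso (η.hom.app E) := fun E => by
      haveI : IsIso ((forget AddCommGrpCat.{u + 1}).map (η.hom.app E)) :=
        inferInstanceAs (IsIso (((sheafToPresheaf _ _).map η').app E))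
      exact isIso_of_reflects_iso _ (forget AddCommGrpCat.{u + 1})
    exact NatIso.isIso_of_isIso_app _
  haveI : IsIso η := by
    haveI : IsIso ((sheafToPresheaf (etTop X) AddCommGrpCat.{u + 1}).map η) := ‹IsIso η.hom›
    exact isIso_of_reflects_iso η (sheafToPresheaf _ _)
  exact ⟨_, ⟨(asIso η).symm⟩⟩

end Groth.Agent.EtPush14
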