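import Groth.Agent.Lib.AlgSpEt14.Basic
import Groth.Prelude.Def_AlgSpOX2
import Mathlib.Algebra.Category.ModuleCat.Sheaf.PushforwardContinuous
import Mathlib.Algebra.Category.ModuleCat.Sheaf.Limits

/-! Pullback of modules along a representable etale morphism is restriction. -/

universe u

open CategoryTheory CategoryTheory.Limits AlgebraicGeometry Opposite

set_option linter.style.haveILetI false
set_option maxHeartbeats 400000
set_option backward.isDefEq.respectTransparency false
set_option backward.isDefEq.respectTransparency.types false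

namespace Groth.Agent.EtPush14

open AlgSp

variable {S : Scheme.{u}} {X Y : Sp S} {f : X ⟶ Y} (hrep : Representable f) (hf : IsEtaleMor f)

/-- composition with an etale morphism is left adjoint to base change along it -/
noncomputable def postcompAdj : EtOver.postcomp f hf ⊣ EtOver.bc hrep :=
  Adjunction.mkOfHomEquiv
    { homEquiv E V :=
        { toFun := fun g => EtOver.homMk (hrep.lift E.obj.hom g.hom.left (EtOver.w g).symm) (hrep.lift_fst _ _ _)
          invFun := fun h => EtOver.homMk (h.hom.left ≫ EtOver.bcπ hrep V) (by
            change (yon S).map (h.hom.left ≫ hrep.snd V.obj.hom) ≫ V.obj.hom = E.obj.hom ≫ f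
            rw [Functor.map_comp, Category.assoc, ← hrep.w, ← Category.assoc]
            exact congrArg (· ≫ f) (EtOver.w h))
          left_inv := fun g => EtOver.hom_ext _ _ (hrep.lift_snd _ _ _)
          right_inv := fun h => EtOver.hom_ext _ _ (hrep.hom_ext
            ((hrep.lift_fst _ _ _).trans (EtOver.w h).symm) (hrep.lift_snd _ _ _)) }
      homEquiv_naturality_left_symm := fun a h => EtOver.hom_ext _ _ (Category.assoc _ _ _)
      homEquiv_naturality_right := fun {E V V'} g k => EtOver.hom_ext _ _ (hrep.hom_ext (by
        change (yon S).map (hrep.lift E.obj.hom _ _) ≫ hrep.fst V'.obj.hom =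
          (yon S).map (hrep.lift E.obj.hom g.hom.left _ ≫ (EtOver.bcMap hrep k).hom.left) ≫ hrep.fst V'.obj.hom
        rw [hrep.lift_fst, Functor.map_comp, Category.assoc, EtOver.map_bcMap_fst]
        exact (hrep.lift_fst _ _ _).symm) (by
        change hrep.lift E.obj.hom _ _ ≫ hrep.snd V'.obj.hom =
          (hrep.lift E.obj.hom g.hom.left _ ≫ (EtOver.bcMap hrep k).hom.left) ≫ hrep.snd V'.obj.hom
        rw [hrep.lift_snd, Category.assoc, EtOver.bcMap_snd, ← Category.assoc, hrep.lift_snd]
        rfl)) }

variable [(EtOver.postcomp f hf).IsContinuous (etTop X) (etTop Y)]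

/-- functions on an object do not change under composition -/
noncomputable def postcompRingHom :
    OEtRing X ⟶ ((EtOver.postcomp f hf).sheafPushforwardContinuous RingCat.{u + 1} (etTop X) (etTop Y)).obj (OEtRing Y) :=
  ObjectProperty.homMk
    { app := fun E => 𝟙 ((BigSite.ORing Scheme.etalePrecoverage S).obj.obj (op E.unop.obj.left))
      naturality := fun E E' g => by
        change (BigSite.ORing Scheme.etalePrecoverage S).obj.map g.unop.hom.left.op ≫ 𝟙 _ =
          𝟙 _ ≫ (BigSite.ORing Scheme.etalePrecoverage S).obj.map g.unop.hom.left.op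
        rw [Category.comp_id, Category.id_comp] }

/-- restriction of modules along an etale morphism -/
noncomputable abbrev restrEt : ModEt Y ⥤ ModEt X := SheafOfModules.pushforward (postcompRingHom hf)

theorem counit_left (V : EtOver Y) : ((postcompAdj hrep hf).counit.app V).hom.left = EtOver.bcπ hrep V := by
  rw [postcompAdj, Adjunction.mkOfHomEquiv_counit_app]
  exact Category.id_comp _

theorem unit_left_bcπ (E : EtOver X) : ((postcompAdj hrep hf).unit.app E).hom.left ≫
    EtOver.bcπ hrep ((EtOver.postcomp f hf).obj E) = 𝟙 _ := by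
  rw [postcompAdj, Adjunction.mkOfHomEquiv_unit_app]
  exact hrep.lift_snd _ _ _

theorem H₁ : Functor.whiskerRight (NatTrans.op (postcompAdj hrep hf).counit) (OEtRing Y).obj =
    (bcRingHom hrep).hom ≫ (EtOver.bc hrep).op.whiskerLeft (postcompRingHom hf).hom := by
  apply NatTrans.ext
  funext V
  change (BigSite.ORing Scheme.etalePrecoverage S).obj.map ((postcompAdj hrep hf).counit.app V.unop).hom.left.op =
    (BigSite.ORing Scheme.etalePrecoverage S).obj.map (EtOver.bcπ hrep V.unop).op ≫ 𝟙 _
  rw [counit_left, Category.comp_id]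

theorem H₂ : (postcompRingHom hf).hom ≫ (EtOver.postcomp f hf).op.whiskerLeft (bcRingHom hrep).hom ≫
    Functor.whiskerRight (NatTrans.op (postcompAdj hrep hf).unit) (OEtRing X).obj = 𝟙 (OEtRing X).obj := by
  apply NatTrans.ext
  funext E
  change 𝟙 _ ≫ (BigSite.ORing Scheme.etalePrecoverage S).obj.map (EtOver.bcπ hrep ((EtOver.postcomp f hf).obj E.unop)).op ≫
    (BigSite.ORing Scheme.etalePrecoverage S).obj.map ((postcompAdj hrep hf).unit.app E.unop).hom.left.op = 𝟙 _
  rw [Category.id_comp, ← Functor.map_comp, ← op_comp, unit_left_bcπ, op_id]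
  exact CategoryTheory.Functor.map_id _ _

/-- restriction is left adjoint to direct image -/
noncomputable def restrPushAdj : restrEt hf ⊣ pushModEt hrep :=
  SheafOfModules.pushforwardPushforwardAdj (postcompAdj hrep hf) (postcompRingHom hf) (bcRingHom hrep)
    (H₁ hrep hf) (H₂ hrep hf)

include hf in
theorem preservesFiniteLimits_pullModEt [(SheafOfModules.pushforward.{u + 1} (bcRingHom hrep)).IsRightAdjoint] :
    PreservesFiniteLimits (pullModEt hrep) := by
  haveI : PreservesFiniteLimits (restrEt hf) := ⟨fun J _ _ => by
    let U := SheafOfModules.forget (OEtRing X) ⋙ PresheafOfModules.toPresheaf.{u + 1} (OEtRing X).obj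
    haveI : HasLimitsOfShape J (ModEt X) := inferInstance
    haveI : PreservesLimitsOfShape J U := inferInstance
    haveI : ReflectsLimitsOfShape J U := reflectsLimitsOfShape_of_reflectsIsomorphisms
    let V := SheafOfModules.forget (OEtRing Y) ⋙ PresheafOfModules.toPresheaf.{u + 1} (OEtRing Y).obj ⋙
      (Functor.whiskeringLeft _ _ AddCommGrpCat.{u + 1}).obj (EtOver.postcomp f hf).op
    haveI : PreservesLimitsOfShape J V := inferInstance
    let e : restrEt hf ⋙ U ≅ V := NatIso.ofComponents (fun M => Iso.refl _)
      (fun g => (Category.comp_id _).trans (Category.id_comp _).symm)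
    haveI : PreservesLimitsOfShape J (restrEt hf ⋙ U) := preservesLimitsOfShape_of_natIso e.symm
    exact preservesLimitsOfShape_of_reflects_of_preserves (restrEt hf) U⟩
  exact preservesFiniteLimits_of_natIso ((restrPushAdj hrep hf).leftAdjointUniq (pullPushAdjModEt hrep))

end Groth.Agent.EtPush14
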