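import Groth.Agent.Lib.EtPush14.Site
import Groth.Agent.Lib.QcohEt15.ClosedImm

/-! Direct image of modules along closed immersions is fully faithful. -/

universe u

open CategoryTheory CategoryTheory.Limits AlgebraicGeometry Opposite

set_option linter.style.haveILetI false
set_option backward.isDefEq.respectTransparency false
set_option backward.isDefEq.respectTransparency.types false

namespace Groth.Agent.EtPush14

open AlgSp Groth.Agent.QcohEt15

variable {S : Scheme.{u}} {Y : Sp S} {X : Space S} {f : Y ⟶ X.obj} (hi : RepWith @IsClosedImmersion f)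

theorem exists_affine_bc_cover (W : EtOver Y) (x : ↥W.obj.left.left) :
    ∃ (E : EtOver X.obj) (_ : IsAffine E.obj.left.left) (g : EtOver.bcObj hi.1 E ⟶ W),
      x ∈ Set.range g.hom.left.left := by
  haveI := coverDense_bc hi.1 X.property (isIntUI_of_closedImmersion hi)
  obtain ⟨R', hR', hle⟩ := (Precoverage.mem_toGrothendieck_iff_of_isStableUnderComposition).1
    (Functor.IsCoverDense.is_cover (G := EtOver.bc hi.1) W : _ ∈ etTop Y W)
  obtain ⟨ι, Z, h, rfl⟩ := R'.exists_eq_ofArrows
  obtain ⟨i, v, hv⟩ := (ofArrows_mem_etPre_iff Z h).1 hR' x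
  obtain ⟨⟨E, l, m, hlm⟩⟩ := hle _ _ (Presieve.ofArrows.mk i)
  let w := l.hom.left.left v
  obtain ⟨O, t, ht⟩ := exists_openSub_mem E ((EtOver.bcπ hi.1 E).left w)
  let E' := AlgSpEt14.openSub E O.1
  let g : E' ⟶ E := AlgSpEt14.openSubι E O.1
  obtain ⟨s, hs, -⟩ := Scheme.Pullback.exists_preimage_pullback (f := (hi.1.snd E.obj.hom).left)
    (g := g.hom.left.left) w t ht.symm
  refine ⟨E', O.2, EtOver.bcMap hi.1 g ≫ m, (EtOver.isPullback_bcMap_left hi.1 g).isoPullback.inv s, ?_⟩
  subst hv
  have hh : (h i).hom.left.left v = m.hom.left.left w := congrArg (fun k => k.hom.left.left v) hlm.symm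
  show m.hom.left.left ((EtOver.bcMap hi.1 g).hom.left.left _) = _
  rw [hh]
  congr 1
  rw [← Scheme.Hom.comp_apply, (EtOver.isPullback_bcMap_left hi.1 g).isoPullback_inv_fst]
  exact hs

theorem pushModEt_fullyFaithful : (pushModEt hi.1).Full ∧ (pushModEt hi.1).Faithful := by
  have hIU := isIntUI_of_closedImmersion hi
  obtain ⟨hfull, hfaith⟩ := pushEt_fullyFaithful hi.1 X.property hIU AddCommGrpCat.{u + 1}
  constructor
  · constructor
    intro M N φ
    obtain ⟨ψ, hψ⟩ := (pushEt hi.1 AddCommGrpCat.{u + 1}).map_surjective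
      (X := (SheafOfModules.toSheaf (OEtRing Y)).obj M) (Y := (SheafOfModules.toSheaf (OEtRing Y)).obj N)
      ((SheafOfModules.toSheaf (OEtRing X.obj)).map φ)
    let Ψ : ∀ W : EtOver Y, sectModEt M W →+ sectModEt N W := fun W => (ψ.hom.app (op W)).hom
    have hψ' : ∀ (E : EtOver X.obj) (m : sectModEt M (EtOver.bcObj hi.1 E)),
        Ψ (EtOver.bcObj hi.1 E) m = pushOut hi.1 (φ.val.app (op E) (pushIn hi.1 m)) :=
      fun E m => congrArg (fun k => (k.hom.app (op E)).hom m) hψ
    have nat : ∀ {W W' : EtOver Y} (g : W' ⟶ W) (m : sectModEt M W),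
        Ψ W' (res M g m) = res N g (Ψ W m) :=
      fun g m => congrArg (fun k => k.hom m) (ψ.hom.naturality g.op)
    have lin : ∀ (W : EtOver Y) (r : Γo W) (m : sectModEt M W), Ψ W (r • m) = r • Ψ W m := by
      intro W r m
      refine sections_ext_family N
        (fun k : Σ E : EtOver X.obj, {g : EtOver.bcObj hi.1 E ⟶ W // IsAffine E.obj.left.left} =>
          EtOver.bcObj hi.1 k.1) (fun k => k.2.1) (fun x => ?_) fun k => ?_
      · obtain ⟨E, hE, g, hg⟩ := exists_affine_bc_cover hi W x
        exact ⟨⟨E, g, hE⟩, hg⟩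
      · obtain ⟨E, g, hE⟩ := k
        haveI := hE
        obtain ⟨a, ha⟩ := bγ_surjective hi E (γ g r)
        show res N g _ = res N g _
        rw [res_smul, ← nat, ← nat, res_smul, ← ha, hψ', hψ']
        exact (congrArg (pushOut hi.1) (hom_smul φ a (pushIn hi.1 (res M g m)))).trans (pushOut_smul hi.1 a _)
    let v : M.val ⟶ N.val := PresheafOfModules.homMk ψ.hom fun W r m => by
      exact lin W.unop r.down m
    refine ⟨⟨v⟩, ?_⟩
    refine SheafOfModules.hom_ext (PresheafOfModules.hom_ext fun E => ModuleCat.hom_ext (LinearMap.ext fun m => ?_))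
    exact hψ' E.unop m
  · constructor
    intro M N a b hab
    apply (SheafOfModules.toSheaf (OEtRing Y)).map_injective
    apply (pushEt hi.1 AddCommGrpCat.{u + 1}).map_injective
    exact congrArg (SheafOfModules.toSheaf (OEtRing X.obj)).map hab

end Groth.Agent.EtPush14
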