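import Groth.Agent.Lib.EtPush14.EtPull
import Groth.Agent.Lib.QcohEt15.Pull.Desc
import Groth.Agent.Lib.QcohEt15.Present
import Groth.Agent.Lib.QcohEt15.Colim.Site

/-!
# Quasi-coherence is tested on an etale surjective chart
-/

universe u

open CategoryTheory CategoryTheory.Limits AlgebraicGeometry Opposite TensorProduct

set_option linter.style.haveILetI false
set_option maxHeartbeats 800000
set_option backward.isDefEq.respectTransparency false
set_option backward.isDefEq.respectTransparency.types false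

namespace Groth.Agent.EtPush14

open AlgSp Groth.Agent.QcohEt15 Groth.Agent.QcohEt15.Colim Groth.Agent.AlgSpace

variable {S : Scheme.{u}}

theorem bc_of_isIso {X : Sp S} (M : ModEt X) {E E' : EtOver X} (g : E' ⟶ E) [IsIso g] : BC M g := by
  have hγ : ∀ a : Γo E', γ g (γ (inv g) a) = a := fun a => by
    rw [← RingHom.comp_apply, ← γ_comp, IsIso.hom_inv_id]; rfl
  have hz : ∀ z : Tw g ⊗[Γo E] sectModEt M E, ∃ n, z = (1 : Tw g) ⊗ₜ n := fun z => by
    induction z using TensorProduct.induction_on with
    | zero => exact ⟨0, (TensorProduct.tmul_zero _ _).symm⟩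
    | tmul a n =>
      refine ⟨γ (inv g) (Tw.out a) • n, ?_⟩
      rw [← TensorProduct.smul_tmul, Algebra.smul_def, mul_one]
      exact congrArg (fun b : Tw g => b ⊗ₜ[Γo E] n) (hγ (Tw.out a)).symm
    | add x y hx hy =>
      obtain ⟨m, rfl⟩ := hx
      obtain ⟨n, rfl⟩ := hy
      exact ⟨m + n, (TensorProduct.tmul_add _ _ _).symm⟩
  constructor
  · intro x y h
    obtain ⟨m, rfl⟩ := hz x
    obtain ⟨n, rfl⟩ := hz y
    rw [lift_one_tmul, lift_one_tmul] at h
    have h' := congrArg (res M (inv g)) h
    rw [← res_comp, ← res_comp, IsIso.inv_hom_id, res_id, res_id] at h'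
    exact congrArg _ h'
  · intro m
    refine ⟨(1 : Tw g) ⊗ₜ res M (inv g) m, ?_⟩
    rw [lift_one_tmul]
    change res M g (res M (inv g) m) = m
    rw [← res_comp, IsIso.hom_inv_id, res_id]

variable {X Y : Sp S} {f : X ⟶ Y} (hf : IsEtaleMor f)
variable [(EtOver.postcomp f hf).IsContinuous (etTop X) (etTop Y)]

theorem good_postcomp (F : ModEt Y) (E : EtOver X) (hG : Good ((restrEt hf).obj F) E) :
    Good F ((EtOver.postcomp f hf).obj E) := by
  intro E' _ g
  let l : E'.obj.left ⟶ E.obj.left := g.hom.left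
  have hl : RepWith @Etale ((yon S).map l ≫ E.obj.hom) :=
    repWith_comp ((repWith_yon_map_iff @Etale l).2 (EtOver.etale_left g)) E.property
  let E'' : EtOver X := EtOver.mk ((yon S).map l ≫ E.obj.hom) hl
  let g' : E'' ⟶ E := EtOver.homMk l rfl
  haveI : IsAffine E''.obj.left.left := inferInstanceAs (IsAffine E'.obj.left.left)
  have hb : BC F ((EtOver.postcomp f hf).map g') := hG g'
  have hw : (yon S).map l ≫ E.obj.hom ≫ f = E'.obj.hom := EtOver.w g
  let e : E' ≅ (EtOver.postcomp f hf).obj E'' :=
    ObjectProperty.isoMk _ (CostructuredArrow.isoMk (Iso.refl _) (by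
      change (yon S).map (𝟙 _) ≫ (((yon S).map l ≫ E.obj.hom) ≫ f) = E'.obj.hom
      rw [CategoryTheory.Functor.map_id, Category.id_comp, Category.assoc, hw]))
  have hg : e.hom ≫ (EtOver.postcomp f hf).map g' = g := EtOver.hom_ext _ _ (Category.id_comp _)
  rw [← hg]
  exact hb.comp (bc_of_isIso F e.hom)

omit [(EtOver.postcomp f hf).IsContinuous (etTop X) (etTop Y)] in
theorem isQuasicoherent_of_chart {X : Space S} (F : ModEt X.obj) {U : Over S}
    (p : (yon S).obj U ⟶ X.obj) (hrep : Representable p) (hp : RepWith @Etale p)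
    (hs : RepWith @Surjective p) (he : IsEtaleMor p)
    [(EtOver.postcomp p he).IsContinuous (etTop ((yon S).obj U)) (etTop X.obj)]
    [(SheafOfModules.pushforward.{u + 1} (bcRingHom hrep)).IsRightAdjoint]
    (hF : ((pullModEt hrep).obj F).IsQuasicoherent) : F.IsQuasicoherent := by
  let M' := (restrEt he).obj F
  have i : (pullModEt hrep).obj F ≅ M' :=
    (((restrPushAdj hrep he).leftAdjointUniq (pullPushAdjModEt hrep)).app F).symm
  haveI : M'.IsQuasicoherent := by
    obtain ⟨q⟩ := hF.nonempty_quasicoherentData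
    exact (q.ofIsIso i.hom).isQuasicoherent
  refine isQuasicoherent_of_good fun E _ => ?_
  let R : Sieve E := Sieve.ofObjects (fun _ : PUnit.{1} => EtOver.mk p hp) E
  have hR : R ∈ etTop X.obj E := by
    refine mem_etTop_iff.2 fun x => ?_
    obtain ⟨a, ha⟩ := (yon S).map_surjective (hp.1.fst E.obj.hom)
    let b := hp.1.snd E.obj.hom
    have sq := hp.1.isPullback E.obj.hom
    rw [← ha] at sq
    let W : EtOver X.obj := EtOver.mk ((yon S).map b ≫ E.obj.hom)
      (repWith_comp (repWith_of_isPullback sq hp) E.property)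
    have : Surjective b.left :=
      (repWith_yon_map_iff @Surjective b).1 (repWith_of_isPullback sq hs)
    refine ⟨W, EtOver.homMk b rfl, ?_, b.left.surjective x⟩
    exact (Sieve.mem_ofObjects_iff ..).2 ⟨PUnit.unit, ⟨EtOver.homMk a sq.w⟩⟩
  refine Good.of_local R hR fun W _ k hk => ?_
  obtain ⟨-, ⟨t⟩⟩ := (Sieve.mem_ofObjects_iff ..).1 hk
  have ht : RepWith @Etale ((yon S).map t.hom.left) :=
    (repWith_yon_map_iff @Etale t.hom.left).2 (EtOver.etale_left t)
  let W' : EtOver ((yon S).obj U) := EtOver.mk ((yon S).map t.hom.left) ht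
  haveI : IsAffine W'.obj.left.left := inferInstanceAs (IsAffine W.obj.left.left)
  haveI : IsAffine ((EtOver.postcomp p he).obj W').obj.left.left :=
    inferInstanceAs (IsAffine W.obj.left.left)
  have hG : Good F ((EtOver.postcomp p he).obj W') :=
    good_postcomp he F W' (good_of_isQuasicoherent W')
  let e : W ≅ (EtOver.postcomp p he).obj W' :=
    ObjectProperty.isoMk _ (CostructuredArrow.isoMk (Iso.refl _) (by
      change (yon S).map (𝟙 _) ≫ ((yon S).map t.hom.left ≫ p) = W.obj.hom
      rw [CategoryTheory.Functor.map_id, Category.id_comp]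
      exact EtOver.w t))
  exact hG.of_hom e.hom

end Groth.Agent.EtPush14
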