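import Groth.Agent.Lib.TopInv15.Bc
import Groth.Agent.Lib.EtStalk.EtLift

/-! Etale schemes lift locally along integral universally injective morphisms. -/

universe u

open CategoryTheory CategoryTheory.Limits AlgebraicGeometry

set_option linter.style.haveILetI false
set_option backward.isDefEq.respectTransparency.types false

namespace Groth.Agent.EtPush14

variable {X Y : Scheme.{u}}

theorem exists_lift (f : X ⟶ Y) [IsIntegralHom f] [UniversallyInjective f] {W : Scheme.{u}} (g : W ⟶ X) [Etale g]
    (w : W) : ∃ (V : Scheme.{u}) (a : V ⟶ Y) (h : pullback a f ⟶ W),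
      Etale a ∧ h ≫ g = pullback.snd a f ∧ ∃ z : ↥(pullback a f), h z = w := by
  let f₁ := f.toImage
  let i := f.imageι
  have hf : f₁ ≫ i = f := f.toImage_imageι
  haveI : IsIntegralHom (f₁ ≫ i) := by rw [hf]; infer_instance
  haveI : IsIntegralHom f₁ := IsIntegralHom.of_comp f₁ i
  haveI : UniversallyInjective (f₁ ≫ i) := by rw [hf]; infer_instance
  haveI : UniversallyInjective f₁ := by
    have s1 : IsPullback (𝟙 X) f₁ f₁ (𝟙 _) := IsPullback.of_horiz_isIso ⟨by simp⟩
    have hi : IsPullback (𝟙 f.image) (𝟙 f.image) i i := IsKernelPair.id_of_mono i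
    exact MorphismProperty.of_isPullback (by simpa using s1.paste_vert hi) ‹UniversallyInjective (f₁ ≫ i)›
  haveI : Surjective f₁ := ⟨by
    rw [← Set.range_eq_univ, ← f₁.isClosedMap.isClosed_range.closure_eq]
    exact DenseRange.closure_range f₁.denseRange⟩
  obtain ⟨G, a₀, c, ha₀, sq⟩ := TopInv15.exists_etale_scheme f₁ g
  haveI := ha₀
  haveI : UniversallyInjective c := MorphismProperty.of_isPullback sq ‹UniversallyInjective f₁›
  obtain ⟨V, h₁, ho, hw₁, y, hy⟩ := EtStalk.exists_lift_at i (Scheme.Etale.mk a₀) (c w)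
  let k : pullback V.hom f ⟶ pullback V.hom i :=
    pullback.map _ _ _ _ (𝟙 _) f₁ (𝟙 _) (by simp) (by rw [hf, Category.comp_id])
  let h₁' : pullback V.hom i ⟶ G := h₁
  have hw₁' : h₁' ≫ a₀ = pullback.snd V.hom i := hw₁
  have hk : k ≫ pullback.snd V.hom i = pullback.snd V.hom f ≫ f₁ := pullback.lift_snd _ _ _
  have hl : pullback.snd V.hom f ≫ f₁ = (k ≫ h₁') ≫ a₀ := by rw [Category.assoc, hw₁', hk]
  let h : pullback V.hom f ⟶ W := sq.lift (pullback.snd V.hom f) (k ≫ h₁') hl
  refine ⟨V.left, V.hom, h, V.prop, sq.lift_fst _ _ _, ?_⟩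
  haveI : Surjective k := by
    have hp : IsPullback k (pullback.snd V.hom f) (pullback.snd V.hom i) f₁ := by
      refine (IsPullback.of_bot ?_ hk.symm (IsPullback.of_hasPullback V.hom i).flip).flip
      rw [hf, show k ≫ pullback.fst V.hom i = pullback.fst V.hom f from
        (pullback.lift_fst _ _ _).trans (Category.comp_id _)]
      exact (IsPullback.of_hasPullback V.hom f).flip
    exact MorphismProperty.of_isPullback (P := @Surjective) hp.flip ‹_›
  obtain ⟨z, hz⟩ := k.surjective y
  refine ⟨z, c.injective ?_⟩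
  rw [← Scheme.Hom.comp_apply, sq.lift_snd, Scheme.Hom.comp_apply, hz]
  exact hy

/-- a section over an integral universally injective base change has a unique open extension of its image -/
theorem exists_open (b : X ⟶ Y) [IsIntegralHom b] [UniversallyInjective b] {P : Scheme.{u}} (p : P ⟶ Y) [Etale p]
    (σ : X ⟶ P) (hσ : σ ≫ p = b) :
    ∃ O : P.Opens, (∀ x, σ x ∈ O) ∧ ∀ {T : Scheme.{u}} (u : T ⟶ X) (v : T ⟶ P),
      v ≫ p = u ≫ b → (∀ t, v t ∈ O) → v = u ≫ σ := by
  let s : X ⟶ pullback p b := pullback.lift σ (𝟙 X) (by rw [hσ, Category.id_comp])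
  have hs : s ≫ pullback.snd p b = 𝟙 X := pullback.lift_snd _ _ _
  haveI : Etale (s ≫ pullback.snd p b) := by rw [hs]; infer_instance
  haveI : Etale s := Etale.of_comp s (pullback.snd p b)
  haveI : Mono (s ≫ pullback.snd p b) := by rw [hs]; infer_instance
  haveI : Mono s := mono_of_mono s (pullback.snd p b)
  haveI : IsOpenImmersion s := IsOpenImmersion.of_flat_of_mono s
  haveI : IsIntegralHom (pullback.fst p b) := MorphismProperty.pullback_fst _ _ ‹IsIntegralHom b›
  haveI : UniversallyInjective (pullback.fst p b) := MorphismProperty.pullback_fst _ _ ‹UniversallyInjective b›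
  have hemb : Topology.IsClosedEmbedding (pullback.fst p b) :=
    .of_continuous_injective_isClosedMap (pullback.fst p b).continuous (pullback.fst p b).injective
      (pullback.fst p b).isClosedMap
  obtain ⟨O, hO, hOs⟩ := hemb.isInducing.isOpen_iff.1 s.opensRange.2
  refine ⟨⟨O, hO⟩, fun x => ?_, fun {T} u v huv hv => ?_⟩
  · have : s x ∈ (pullback.fst p b) ⁻¹' O := by rw [hOs]; exact ⟨x, rfl⟩
    rw [Set.mem_preimage, ← Scheme.Hom.comp_apply, pullback.lift_fst] at this
    exact this
  · let a : T ⟶ pullback p b := pullback.lift v u huv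
    have hr : Set.range a ⊆ Set.range s := by
      rintro _ ⟨t, rfl⟩
      have : a t ∈ (pullback.fst p b) ⁻¹' O := by
        rw [Set.mem_preimage, ← Scheme.Hom.comp_apply, pullback.lift_fst]
        exact hv t
      rwa [hOs] at this
    have ht := IsOpenImmersion.lift_fac s a hr
    have hu : IsOpenImmersion.lift s a hr = u := by
      calc IsOpenImmersion.lift s a hr = (IsOpenImmersion.lift s a hr ≫ s) ≫ pullback.snd p b := by
            rw [Category.assoc, hs, Category.comp_id]
        _ = u := by rw [ht]; exact pullback.lift_snd _ _ _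
    rw [hu] at ht
    calc v = a ≫ pullback.fst p b := (pullback.lift_fst _ _ _).symm
      _ = u ≫ σ := by rw [← ht, Category.assoc]; exact congrArg (u ≫ ·) (pullback.lift_fst _ _ _)

end Groth.Agent.EtPush14
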