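import Groth.Agent.Lib.EtPush14.Scheme
import Groth.Agent.Lib.AlgSpace.PointsBC
import Groth.Prelude.Def_AlgSpOX2
import Groth.Prelude.Def_AlgSp4

/-! Base change of small etale sites along integral universally injective morphisms is dense. -/

universe u

open CategoryTheory CategoryTheory.Limits AlgebraicGeometry Opposite

set_option linter.style.haveILetI false
set_option backward.isDefEq.respectTransparency false
set_option backward.isDefEq.respectTransparency.types false

namespace Groth.Agent.EtPush14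

open AlgSp Groth.Agent.AlgSpace

variable {S : Scheme.{u}} {Y X : Sp S} {f : Y ⟶ X} (hf : Representable f)

/-- `f` is integral and universally injective after any base change to a scheme -/
def IsIntUI : Prop := ∀ E : EtOver X,
  IsIntegralHom (EtOver.bcπ hf E).left ∧ UniversallyInjective (EtOver.bcπ hf E).left

theorem isIntUI_of (hi : RepWith @IsIntegralHom f) (hu : IsUnivInjectiveMor f) : IsIntUI hi.1 := fun E =>
  ⟨hi.2 E.obj.hom _ _ (EtOver.isPullback_bcObj hi.1 E),
    ((repWith_universallyInjective_iff hi.1).2 hu).2 E.obj.hom _ _ (EtOver.isPullback_bcObj hi.1 E)⟩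

theorem locallyFull_bc (h : IsIntUI hf) : (EtOver.bc hf).IsLocallyFull (etTop Y) := by
  constructor
  intro E E' φ
  obtain ⟨P, p, q₀, sqP⟩ := E'.property.1 E.obj.hom
  obtain ⟨q, rfl⟩ := (yon S).map_surjective q₀
  have hp : Etale p.left := E'.property.2 E.obj.hom _ p sqP
  let b := EtOver.bcπ hf E
  let b' := φ.hom.left ≫ EtOver.bcπ hf E'
  have hc : (yon S).map b' ≫ E'.obj.hom = (yon S).map b ≫ E.obj.hom := by
    refine (congrArg (· ≫ E'.obj.hom) ((yon S).map_comp _ _)).trans ?_
    refine (Category.assoc _ _ _).trans ?_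
    refine (congrArg ((yon S).map φ.hom.left ≫ ·) (EtOver.isPullback_bcObj hf E').w.symm).trans ?_
    refine (Category.assoc _ _ _).symm.trans ?_
    exact (congrArg (· ≫ f) (EtOver.w φ)).trans (EtOver.isPullback_bcObj hf E).w
  obtain ⟨σ, hσ⟩ := (yon S).map_surjective (sqP.lift ((yon S).map b') ((yon S).map b) hc)
  have hσp : σ ≫ p = b := (yon S).map_injective (by rw [Functor.map_comp, hσ, sqP.lift_snd])
  have hσq : σ ≫ q = b' := (yon S).map_injective (by rw [Functor.map_comp, hσ, sqP.lift_fst])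
  haveI := (h E).1
  haveI := (h E).2
  haveI := hp
  obtain ⟨O, hO, hO'⟩ := exists_open b.left p.left σ.left (congrArg CommaMorphism.left hσp)
  let P' : Over S := Over.mk (O.ι ≫ P.hom)
  let j : P' ⟶ P := Over.homMk O.ι rfl
  have hj : Etale (j ≫ p).left := inferInstanceAs (Etale (O.ι ≫ p.left))
  let E'' : EtOver X := EtOver.mk ((yon S).map (j ≫ p) ≫ E.obj.hom)
    (repWith_comp ((repWith_yon_map_iff _ _).2 hj) E.property)
  let g : E'' ⟶ E := EtOver.homMk (j ≫ p) rfl
  let l : E'' ⟶ E' := EtOver.homMk (j ≫ q) (by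
    show (yon S).map (j ≫ q) ≫ E'.obj.hom = (yon S).map (j ≫ p) ≫ E.obj.hom
    rw [Functor.map_comp, Functor.map_comp, Category.assoc, Category.assoc, sqP.w])
  let π := EtOver.bcπ hf E''
  have hg : g.hom.left = j ≫ p := rfl
  have hgπ := EtOver.bcMap_snd hf g
  have key : π ≫ j = (EtOver.bcMap hf g).hom.left ≫ σ := by
    apply Over.OverMorphism.ext
    refine hO' (EtOver.bcMap hf g).hom.left.left (π ≫ j).left ?_ fun t => (π.left t).2
    rw [← Over.comp_left, ← Over.comp_left]
    exact congrArg CommaMorphism.left ((Category.assoc _ _ _).trans hgπ.symm)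
  have hl : (EtOver.bc hf).map l = (EtOver.bc hf).map g ≫ φ := by
    refine EtOver.hom_ext _ _ (hf.hom_ext ?_ ?_)
    · change (yon S).map (EtOver.bcMap hf l).hom.left ≫ hf.fst E'.obj.hom =
        (yon S).map ((EtOver.bcMap hf g).hom.left ≫ φ.hom.left) ≫ hf.fst E'.obj.hom
      rw [EtOver.map_bcMap_fst, Functor.map_comp, Category.assoc]
      exact ((congrArg _ (EtOver.w φ)).trans (EtOver.map_bcMap_fst hf g)).symm
    · change (EtOver.bcMap hf l).hom.left ≫ hf.snd E'.obj.hom =
        ((EtOver.bcMap hf g).hom.left ≫ φ.hom.left) ≫ hf.snd E'.obj.hom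
      rw [EtOver.bcMap_snd, Category.assoc]
      change π ≫ j ≫ q = (EtOver.bcMap hf g).hom.left ≫ b'
      rw [← hσq, reassoc_of% key]
  have hsurj : ∀ z, z ∈ Set.range (EtOver.bcMap hf g).hom.left.left := fun z => by
    have sq := EtOver.isPullback_bcMap_left hf g
    obtain ⟨t, ht₁, -⟩ := Scheme.Pullback.exists_preimage_pullback (f := (hf.snd E.obj.hom).left)
      (g := g.hom.left.left) z ⟨σ.left z, hO z⟩ (by
        change b.left z = p.left (σ.left z)
        exact (congrArg (fun t => t.left z) hσp).symm)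
    refine ⟨sq.isoPullback.inv t, ?_⟩
    rw [← Scheme.Hom.comp_apply, sq.isoPullback_inv_fst]
    exact ht₁
  refine GrothendieckTopology.superset_covering _ ?_
    (ofArrows_mem_etTop (fun _ : PUnit.{u + 1} => (EtOver.bc hf).obj E'') (fun _ => (EtOver.bc hf).map g)
      fun z => ⟨⟨⟩, hsurj z⟩)
  rintro Z a ⟨_, c, _, ⟨i⟩, rfl⟩
  have hmem : ((EtOver.bc hf).imageSieve φ).functorPushforward (EtOver.bc hf) ((EtOver.bc hf).map g) :=
    ⟨E'', g, 𝟙 _, ⟨l, hl⟩, (Category.id_comp _).symm⟩
  exact Sieve.downward_closed _ hmem c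

theorem coverDense_bc (hX : IsAlgSpace X) (h : IsIntUI hf) : (EtOver.bc hf).IsCoverDense (etTop Y) := by
  constructor
  intro W
  obtain ⟨U₀, p₀, he, hs⟩ := hX.atlas
  let E₀ : EtOver X := EtOver.mk p₀ he
  let Y₀ := EtOver.bcObj hf E₀
  let π₀ := EtOver.bcπ hf E₀
  haveI := (h E₀).1
  haveI := (h E₀).2
  obtain ⟨P, r, w₀, sqP⟩ := W.property.1 Y₀.obj.hom
  obtain ⟨w, rfl⟩ := (yon S).map_surjective w₀
  have hr : Etale r.left := W.property.2 Y₀.obj.hom _ r sqP
  have hY₀ : RepWith @Surjective Y₀.obj.hom :=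
    repWith_of_isPullback (EtOver.isPullback_bcObj hf E₀).flip hs
  have hw : Surjective w.left := hY₀.2 W.obj.hom _ w sqP.flip
  haveI := hr
  have H : ∀ x : W.obj.left.left, ∃ (E : EtOver X) (m : (EtOver.bc hf).obj E ⟶ W),
      x ∈ Set.range m.hom.left.left := fun x => by
    obtain ⟨y, rfl⟩ := hw.surj x
    obtain ⟨V, a, k, ha, hk, z, hz⟩ := exists_lift π₀.left r.left y
    let V' : Over S := Over.mk (a ≫ U₀.hom)
    let a' : V' ⟶ U₀ := Over.homMk a rfl
    haveI := ha
    let E : EtOver X := EtOver.mk ((yon S).map a' ≫ p₀) (repWith_comp ((repWith_yon_map_iff _ a').2 ha) he)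
    let g : E ⟶ E₀ := EtOver.homMk a' rfl
    have sq := EtOver.isPullback_bcMap_left hf g
    let e : ((EtOver.bcObj hf E).obj.left).left ≅ pullback a π₀.left := sq.flip.isoPullback
    have hek : (e.hom ≫ k) ≫ r.left = (EtOver.bcMap hf g).hom.left.left := by
      rw [Category.assoc, hk]; exact sq.flip.isoPullback_hom_snd
    let m₀ : (EtOver.bcObj hf E).obj.left ⟶ P := Over.homMk (e.hom ≫ k) (by
      have : r.left ≫ Y₀.obj.left.hom = P.hom := Over.w r
      rw [← this, ← Category.assoc, hek]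
      exact Over.w (EtOver.bcMap hf g).hom.left)
    have hm₀ : m₀ ≫ r = (EtOver.bcMap hf g).hom.left := Over.OverMorphism.ext hek
    let m : (EtOver.bc hf).obj E ⟶ W := EtOver.homMk (m₀ ≫ w) (by
      change (yon S).map (m₀ ≫ w) ≫ W.obj.hom = (EtOver.bcObj hf E).obj.hom
      rw [Functor.map_comp, Category.assoc, sqP.w, ← Category.assoc, ← Functor.map_comp, hm₀]
      exact EtOver.w (EtOver.bcMap hf g))
    refine ⟨E, m, e.inv z, ?_⟩
    show (m₀.left ≫ w.left) (e.inv z) = w.left y
    rw [Scheme.Hom.comp_apply]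
    congr 1
    show (e.hom ≫ k) (e.inv z) = y
    rw [← Scheme.Hom.comp_apply, e.inv_hom_id_assoc]
    exact hz
  choose E m hm using H
  refine GrothendieckTopology.superset_covering _ ?_ (ofArrows_mem_etTop _ m fun x => ⟨x, hm x⟩)
  rintro Z a ⟨_, c, _, ⟨x⟩, rfl⟩
  exact ⟨⟨E x, c, m x, rfl⟩⟩

theorem pushEt_fullyFaithful (hX : IsAlgSpace X) (h : IsIntUI hf) (A : Type*) [Category A]
    [(EtOver.bc hf).IsContinuous (etTop X) (etTop Y)] : (pushEt hf A).Full ∧ (pushEt hf A).Faithful := by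
  haveI := coverDense_bc hf hX h
  haveI := locallyFull_bc hf h
  exact ⟨Functor.IsCoverDense.full_sheafPushforwardContinuous _ _ _,
    Functor.IsCoverDense.faithful_sheafPushforwardContinuous _ _ _⟩

theorem pushEt_fullyFaithful_all (hX : IsAlgSpace X) (h : IsIntUI hf) :
    ((pushEt hf (Type (u + 1))).Full ∧ (pushEt hf (Type (u + 1))).Faithful) ∧
    ((pushEt hf AddCommGrpCat.{u + 1}).Full ∧ (pushEt hf AddCommGrpCat.{u + 1}).Faithful) ∧
    IsIso (pullPushAdjEt hf (Type (u + 1))).counit := by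
  have h1 := pushEt_fullyFaithful hf hX h (Type (u + 1))
  refine ⟨h1, pushEt_fullyFaithful hf hX h _, ?_⟩
  haveI := h1.1
  haveI := h1.2
  exact Adjunction.counit_isIso_of_R_fully_faithful _

end Groth.Agent.EtPush14

namespace Groth.Agent.EtPush14

open AlgSp

theorem isIntUI_of_closedImmersion {S : Scheme.{u}} {Y X : Sp S} {f : Y ⟶ X} (hi : RepWith @IsClosedImmersion f) :
    IsIntUI hi.1 := fun E => by
  haveI : IsClosedImmersion (EtOver.bcπ hi.1 E).left :=
    hi.2 E.obj.hom _ _ (EtOver.isPullback_bcObj hi.1 E)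
  exact ⟨inferInstance, inferInstance⟩

end Groth.Agent.EtPush14
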