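import Groth.Agent.Lib.AlgSpEt.Point
import Groth.Agent.Lib.Misc24.EtalePointIso
import Mathlib.CategoryTheory.Sites.Point.Category

/-! Points of the small etale site of an algebraic space are geometric points. -/

universe w v' u' u

open CategoryTheory CategoryTheory.Limits AlgebraicGeometry Opposite

set_option linter.style.haveILetI false
set_option backward.isDefEq.respectTransparency false
set_option backward.isDefEq.respectTransparency.types false

namespace Groth.Agent.EtPush14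

open AlgSp Groth.Agent.AlgSpEt Groth.Agent.AlgSpace Groth.Agent.AlgSpDecent

section Descend

variable {Ω K : Type u} [Field Ω] [IsSepClosed Ω] [Field K] (φ : Ω →+* K) {U : Scheme.{u}}
  (ξ : Spec (CommRingCat.of Ω) ⟶ U) {W : Scheme.{u}} (h : W ⟶ U) [AlgebraicGeometry.Etale h]

theorem exists_descend (m : Spec (CommRingCat.of K) ⟶ W) (hm : m ≫ h = Spec.map (CommRingCat.ofHom φ) ≫ ξ) :
    ∃ t : Spec (CommRingCat.of Ω) ⟶ W, t ≫ h = ξ ∧ Spec.map (CommRingCat.ofHom φ) ≫ t = m := by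
  let m' : Spec (CommRingCat.of K) ⟶ pullback h ξ := pullback.lift m (Spec.map (CommRingCat.ofHom φ)) hm
  let s := pullback.snd h ξ
  haveI : Subsingleton ↥(Spec (CommRingCat.of Ω)) := inferInstanceAs (Subsingleton (PrimeSpectrum Ω))
  haveI : Subsingleton ↥(Spec (CommRingCat.of K)) := inferInstanceAs (Subsingleton (PrimeSpectrum K))
  obtain ⟨σ, hσ, hσ'⟩ := Scheme.exists_fac_of_etale_of_isSepClosed s (𝟙 (Spec (CommRingCat.of Ω)))
    (m' (IsLocalRing.closedPoint K)) (Subsingleton.elim _ _)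
  haveI : AlgebraicGeometry.Etale (σ ≫ s) := by rw [hσ]; infer_instance
  haveI : AlgebraicGeometry.Etale σ := Etale.of_comp σ s
  haveI : Mono (σ ≫ s) := by rw [hσ]; infer_instance
  haveI : Mono σ := mono_of_mono σ s
  haveI : IsOpenImmersion σ := IsOpenImmersion.of_flat_of_mono σ
  have hr : Set.range m' ⊆ Set.range σ := by
    rintro _ ⟨t, rfl⟩
    rw [Subsingleton.elim t (IsLocalRing.closedPoint K)]
    exact ⟨_, hσ'⟩
  have hl := IsOpenImmersion.lift_fac σ m' hr
  have hl' : IsOpenImmersion.lift σ m' hr = Spec.map (CommRingCat.ofHom φ) := by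
    calc IsOpenImmersion.lift σ m' hr = (IsOpenImmersion.lift σ m' hr ≫ σ) ≫ s := by
          rw [Category.assoc, hσ, Category.comp_id]
      _ = _ := by rw [hl]; exact pullback.lift_snd _ _ _
  refine ⟨σ ≫ pullback.fst h ξ, ?_, ?_⟩
  · rw [Category.assoc, pullback.condition, ← Category.assoc, hσ, Category.id_comp]
  · rw [← hl', ← Category.assoc, hl]
    exact pullback.lift_fst _ _ _

theorem eq_of_comp_eq {t t' : Spec (CommRingCat.of Ω) ⟶ W} (ht : t ≫ h = ξ) (ht' : t' ≫ h = ξ)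
    (e : Spec.map (CommRingCat.ofHom φ) ≫ t = Spec.map (CommRingCat.ofHom φ) ≫ t') : t = t' := by
  haveI : Subsingleton ↥(Spec (CommRingCat.of Ω)) := inferInstanceAs (Subsingleton (PrimeSpectrum Ω))
  let s := pullback.snd h ξ
  let σ := pullback.lift (f := h) (g := ξ) t (𝟙 _) (by rw [ht, Category.id_comp])
  let σ' := pullback.lift (f := h) (g := ξ) t' (𝟙 _) (by rw [ht', Category.id_comp])
  have hs : σ ≫ s = 𝟙 _ := pullback.lift_snd _ _ _
  have hs' : σ' ≫ s = 𝟙 _ := pullback.lift_snd _ _ _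
  haveI : AlgebraicGeometry.Etale (σ ≫ s) := by rw [hs]; infer_instance
  haveI : AlgebraicGeometry.Etale σ := Etale.of_comp σ s
  haveI : Mono (σ ≫ s) := by rw [hs]; infer_instance
  haveI : Mono σ := mono_of_mono σ s
  haveI : IsOpenImmersion σ := IsOpenImmersion.of_flat_of_mono σ
  have hkey : Spec.map (CommRingCat.ofHom φ) ≫ σ = Spec.map (CommRingCat.ofHom φ) ≫ σ' := by
    refine pullback.hom_ext ?_ ?_
    · rw [Category.assoc, Category.assoc, pullback.lift_fst, pullback.lift_fst]; exact e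
    · rw [Category.assoc, Category.assoc, pullback.lift_snd, pullback.lift_snd]
  have hr : Set.range σ' ⊆ Set.range σ := by
    rintro _ ⟨x, rfl⟩
    refine ⟨x, ?_⟩
    have h1 := congrArg (fun k => k (IsLocalRing.closedPoint K)) hkey
    simp only [Scheme.Hom.comp_apply] at h1
    convert h1 using 2 <;> exact Subsingleton.elim _ _
  have hl := IsOpenImmersion.lift_fac σ σ' hr
  have hσ : σ' = σ := by
    have : IsOpenImmersion.lift σ σ' hr = 𝟙 _ := by
      calc IsOpenImmersion.lift σ σ' hr = (IsOpenImmersion.lift σ σ' hr ≫ σ) ≫ s := by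
            rw [Category.assoc, hs, Category.comp_id]
        _ = _ := by rw [hl, hs']
    rw [this, Category.id_comp] at hl
    exact hl.symm
  calc t = σ ≫ pullback.fst h ξ := (pullback.lift_fst _ _ _).symm
    _ = t' := by rw [← hσ]; exact pullback.lift_fst _ _ _

end Descend

variable {S : Scheme.{u}} {X : Sp S}

section Chart

variable (E₁ : EtOver X)

/-- an object over a chart as an etale scheme over it -/
noncomputable def toEt {E : EtOver X} (g : E ⟶ E₁) : E₁.obj.left.left.Etale :=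
  haveI := EtOver.etale_left g
  Scheme.Etale.mk g.hom.left.left

/-- etale schemes over a chart in the site -/
noncomputable abbrev chartF : E₁.obj.left.left.Etale ⥤ EtOver X := EtOver.ofChart E₁.obj.hom E₁.property

/-- the map to the chart -/
noncomputable def toBase (V : E₁.obj.left.left.Etale) : (chartF E₁).obj V ⟶ E₁ :=
  EtOver.homMk (EtOver.homOfEtale V) rfl

theorem map_toBase {V V' : E₁.obj.left.left.Etale} (g : V ⟶ V') :
    (chartF E₁).map g ≫ toBase E₁ V' = toBase E₁ V :=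
  EtOver.hom_ext _ _ (Over.OverMorphism.ext (MorphismProperty.Over.w g))

/-- identification of an object over the chart -/
noncomputable def toG {E : EtOver X} (g : E ⟶ E₁) : E ⟶ (chartF E₁).obj (toEt E₁ g) :=
  EtOver.homMk (Over.homMk (𝟙 E.obj.left.left) ((Category.id_comp _).trans (Over.w g.hom.left))) (by
    show (yon S).map _ ≫ (yon S).map _ ≫ E₁.obj.hom = E.obj.hom
    rw [← Functor.map_comp_assoc]
    exact (congrArg (fun k => (yon S).map k ≫ E₁.obj.hom) (Over.OverMorphism.ext (Category.id_comp _))).trans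
      (EtOver.w g))

/-- inverse identification -/
noncomputable def ofG {E : EtOver X} (g : E ⟶ E₁) : (chartF E₁).obj (toEt E₁ g) ⟶ E :=
  EtOver.homMk (Over.homMk (𝟙 E.obj.left.left) ((Category.id_comp _).trans (Over.w g.hom.left).symm)) (by
    show (yon S).map _ ≫ E.obj.hom = (yon S).map _ ≫ E₁.obj.hom
    rw [← EtOver.w g, ← Functor.map_comp_assoc]
    exact congrArg (fun k => (yon S).map k ≫ E₁.obj.hom) (Over.OverMorphism.ext (Category.id_comp _)))

theorem toG_ofG {E : EtOver X} (g : E ⟶ E₁) : toG E₁ g ≫ ofG E₁ g = 𝟙 E :=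
  EtOver.hom_ext _ _ (Over.OverMorphism.ext (Category.id_comp _))

theorem ofG_toG {E : EtOver X} (g : E ⟶ E₁) : ofG E₁ g ≫ toG E₁ g = 𝟙 _ :=
  EtOver.hom_ext _ _ (Over.OverMorphism.ext (Category.id_comp _))

theorem toG_toBase {E : EtOver X} (g : E ⟶ E₁) : toG E₁ g ≫ toBase E₁ (toEt E₁ g) = g :=
  EtOver.hom_ext _ _ (Over.OverMorphism.ext (Category.id_comp _))

theorem ofG_comp {E : EtOver X} (g : E ⟶ E₁) : ofG E₁ g ≫ g = toBase E₁ (toEt E₁ g) :=
  EtOver.hom_ext _ _ (Over.OverMorphism.ext (Category.id_comp _))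

/-- morphisms of etale schemes over the chart from morphisms in the site -/
noncomputable def etHom {E : EtOver X} (g : E ⟶ E₁) {V : E₁.obj.left.left.Etale} (h : E ⟶ (chartF E₁).obj V)
    (e : h ≫ toBase E₁ V = g) : toEt E₁ g ⟶ V :=
  MorphismProperty.Over.homMk h.hom.left.left (congrArg (fun k => k.hom.left.left) e)

theorem map_etHom {E : EtOver X} (g : E ⟶ E₁) {V : E₁.obj.left.left.Etale} (h : E ⟶ (chartF E₁).obj V)
    (e : h ≫ toBase E₁ V = g) : toG E₁ g ≫ (chartF E₁).map (etHom E₁ g h e) = h :=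
  EtOver.hom_ext _ _ (Over.OverMorphism.ext (Category.id_comp _))

end Chart

variable (P : GrothendieckTopology.Point.{u} (etTop X))

/-- two elements of the fibre of a product with the same projections agree -/
theorem prod_elem_ext {A B : EtOver X} {z z' : P.fiber.obj (EtOver.prodObj A B)}
    (h₁ : P.fiber.map (EtOver.prodFst A B) z = P.fiber.map (EtOver.prodFst A B) z')
    (h₂ : P.fiber.map (EtOver.prodSnd A B) z = P.fiber.map (EtOver.prodSnd A B) z') : z = z' := by
  obtain ⟨⟨M, m⟩, ⟨a, ha⟩, ⟨b, hb⟩, -⟩ := IsCofilteredOrEmpty.cone_objs (C := P.fiber.Elements)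
    ⟨_, z⟩ ⟨_, z'⟩
  dsimp at ha hb
  obtain ⟨⟨M', m'⟩, ⟨q, hq⟩, hq'⟩ := IsCofilteredOrEmpty.cone_maps (C := P.fiber.Elements)
    (CategoryOfElements.homMk ⟨M, m⟩ ⟨A, P.fiber.map (EtOver.prodFst A B) z⟩ (a ≫ EtOver.prodFst A B) (by
      show P.fiber.map _ m = _
      rw [Functor.map_comp_apply, ha]))
    (CategoryOfElements.homMk ⟨M, m⟩ ⟨A, P.fiber.map (EtOver.prodFst A B) z⟩ (b ≫ EtOver.prodFst A B) (by
      show P.fiber.map _ m = _
      rw [Functor.map_comp_apply, hb, h₁]))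
  dsimp at hq
  have e₁ : q ≫ a ≫ EtOver.prodFst A B = q ≫ b ≫ EtOver.prodFst A B := congrArg Subtype.val hq'
  obtain ⟨⟨M'', m''⟩, ⟨r, hr⟩, hr'⟩ := IsCofilteredOrEmpty.cone_maps (C := P.fiber.Elements)
    (CategoryOfElements.homMk ⟨M', m'⟩ ⟨B, P.fiber.map (EtOver.prodSnd A B) z⟩ (q ≫ a ≫ EtOver.prodSnd A B) (by
      show P.fiber.map _ m' = _
      rw [Functor.map_comp_apply, hq, Functor.map_comp_apply, ha]))
    (CategoryOfElements.homMk ⟨M', m'⟩ ⟨B, P.fiber.map (EtOver.prodSnd A B) z⟩ (q ≫ b ≫ EtOver.prodSnd A B) (by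
      show P.fiber.map _ m' = _
      rw [Functor.map_comp_apply, hq, Functor.map_comp_apply, hb, h₂]))
  dsimp at hr
  have e₂ : r ≫ q ≫ a ≫ EtOver.prodSnd A B = r ≫ q ≫ b ≫ EtOver.prodSnd A B := congrArg Subtype.val hr'
  have e : r ≫ q ≫ a = r ≫ q ≫ b := BinaryFan.IsLimit.hom_ext (EtOver.prodIsLimit A B)
    (by simpa [Category.assoc] using congrArg (r ≫ ·) e₁) (by simpa [Category.assoc] using e₂)
  have := congrArg (fun k => P.fiber.map k m'') e
  simp only [Functor.map_comp_apply] at this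
  rw [hr, hq, ha, hb] at this
  exact this

theorem exists_prod_elem {A B : EtOver X} (v : P.fiber.obj A) (w : P.fiber.obj B) :
    ∃ z : P.fiber.obj (EtOver.prodObj A B),
      P.fiber.map (EtOver.prodFst A B) z = v ∧ P.fiber.map (EtOver.prodSnd A B) z = w := by
  obtain ⟨⟨M, m⟩, ⟨a, ha⟩, ⟨b, hb⟩, -⟩ := IsCofilteredOrEmpty.cone_objs (C := P.fiber.Elements) ⟨A, v⟩ ⟨B, w⟩
  dsimp at ha hb
  let l : M ⟶ EtOver.prodObj A B := (BinaryFan.IsLimit.lift' (EtOver.prodIsLimit A B) a b).1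
  have hl := (BinaryFan.IsLimit.lift' (EtOver.prodIsLimit A B) a b).2
  refine ⟨P.fiber.map l m, ?_, ?_⟩
  · rw [← Functor.map_comp_apply]
    exact (congrArg (fun k => P.fiber.map k m) hl.1).trans ha
  · rw [← Functor.map_comp_apply]
    exact (congrArg (fun k => P.fiber.map k m) hl.2).trans hb

variable (E₁ : EtOver X) (e₁ : P.fiber.obj E₁)

/-- the fibre functor of the induced point of the chart -/
noncomputable def chartFiber : E₁.obj.left.left.Etale ⥤ Type u where
  obj V := {v : P.fiber.obj ((chartF E₁).obj V) // P.fiber.map (toBase E₁ V) v = e₁}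
  map {V V'} g := TypeCat.ofHom (fun v : {v : P.fiber.obj ((chartF E₁).obj V) // P.fiber.map (toBase E₁ V) v = e₁} =>
    (⟨P.fiber.map ((chartF E₁).map g) v.1, by rw [← Functor.map_comp_apply, map_toBase]; exact v.2⟩ :
      {v : P.fiber.obj ((chartF E₁).obj V') // P.fiber.map (toBase E₁ V') v = e₁}))
  map_id V := ConcreteCategory.hom_ext _ _ fun v => Subtype.ext (by
    show P.fiber.map ((chartF E₁).map (𝟙 V)) v.1 = v.1
    rw [CategoryTheory.Functor.map_id, CategoryTheory.Functor.map_id]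
    rfl)
  map_comp g g' := ConcreteCategory.hom_ext _ _ fun v => Subtype.ext (by
    show P.fiber.map ((chartF E₁).map (g ≫ g')) v.1 = P.fiber.map ((chartF E₁).map g') (P.fiber.map ((chartF E₁).map g) v.1)
    rw [Functor.map_comp, Functor.map_comp_apply])

/-- an element of the chart fibre from a map to the chart -/
noncomputable def chartElem (M : P.fiber.Elements) (k : M.1 ⟶ E₁) (hk : P.fiber.map k M.2 = e₁) :
    (chartFiber P E₁ e₁).Elements :=
  ⟨toEt E₁ k, ⟨P.fiber.map (toG E₁ k) M.2, by rw [← Functor.map_comp_apply, toG_toBase, hk]⟩⟩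

/-- the morphism out of it -/
noncomputable def chartElemHom (M : P.fiber.Elements) (k : M.1 ⟶ E₁) (hk : P.fiber.map k M.2 = e₁)
    (N : (chartFiber P E₁ e₁).Elements) (h : M.1 ⟶ (chartF E₁).obj N.1) (e : h ≫ toBase E₁ N.1 = k)
    (hh : P.fiber.map h M.2 = N.2.1) : chartElem P E₁ e₁ M k hk ⟶ N :=
  CategoryOfElements.homMk _ _ (etHom E₁ k h e) (Subtype.ext (by
    show P.fiber.map ((chartF E₁).map (etHom E₁ k h e)) (P.fiber.map (toG E₁ k) M.2) = N.2.1
    rw [← Functor.map_comp_apply, map_etHom, hh]))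

theorem isCofiltered_chartFiber : IsCofiltered (chartFiber P E₁ e₁).Elements where
  nonempty := ⟨chartElem P E₁ e₁ ⟨E₁, e₁⟩ (𝟙 E₁) (by
    show P.fiber.map (𝟙 E₁) e₁ = e₁
    rw [CategoryTheory.Functor.map_id]; rfl)⟩
  cone_objs N N' := by
    obtain ⟨⟨M, m⟩, ⟨a, ha⟩, ⟨b, hb⟩, -⟩ := IsCofilteredOrEmpty.cone_objs (C := P.fiber.Elements)
      ⟨_, N.2.1⟩ ⟨_, N'.2.1⟩
    dsimp at ha hb
    obtain ⟨⟨M', m'⟩, ⟨q, hq⟩, hq'⟩ := IsCofilteredOrEmpty.cone_maps (C := P.fiber.Elements)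
      (CategoryOfElements.homMk ⟨M, m⟩ ⟨E₁, e₁⟩ (a ≫ toBase E₁ N.1) (by
        show P.fiber.map _ m = _
        rw [Functor.map_comp_apply, ha]; exact N.2.2))
      (CategoryOfElements.homMk ⟨M, m⟩ ⟨E₁, e₁⟩ (b ≫ toBase E₁ N'.1) (by
        show P.fiber.map _ m = _
        rw [Functor.map_comp_apply, hb]; exact N'.2.2))
    dsimp at hq
    have e : q ≫ a ≫ toBase E₁ N.1 = q ≫ b ≫ toBase E₁ N'.1 := congrArg Subtype.val hq'
    have hk : P.fiber.map (q ≫ a ≫ toBase E₁ N.1) m' = e₁ := by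
      rw [Functor.map_comp_apply, hq, Functor.map_comp_apply, ha]; exact N.2.2
    exact ⟨chartElem P E₁ e₁ ⟨M', m'⟩ _ hk,
      chartElemHom P E₁ e₁ _ _ hk N (q ≫ a) (Category.assoc _ _ _) (by
        show P.fiber.map (q ≫ a) m' = _
        rw [Functor.map_comp_apply, hq, ha]),
      chartElemHom P E₁ e₁ _ _ hk N' (q ≫ b) ((Category.assoc _ _ _).trans e.symm) (by
        show P.fiber.map (q ≫ b) m' = _
        rw [Functor.map_comp_apply, hq, hb]), trivial⟩
  cone_maps {N N'} f g := by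
    obtain ⟨⟨M, m⟩, ⟨q, hq⟩, hq'⟩ := IsCofilteredOrEmpty.cone_maps (C := P.fiber.Elements)
      (CategoryOfElements.homMk ⟨(chartF E₁).obj N.1, N.2.1⟩ ⟨(chartF E₁).obj N'.1, N'.2.1⟩ ((chartF E₁).map f.1)
        (congrArg Subtype.val f.2))
      (CategoryOfElements.homMk ⟨(chartF E₁).obj N.1, N.2.1⟩ ⟨(chartF E₁).obj N'.1, N'.2.1⟩ ((chartF E₁).map g.1)
        (congrArg Subtype.val g.2))
    dsimp at hq
    have e : q ≫ (chartF E₁).map f.1 = q ≫ (chartF E₁).map g.1 := congrArg Subtype.val hq'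
    have hk : P.fiber.map (q ≫ toBase E₁ N.1) m = e₁ := by
      rw [Functor.map_comp_apply, hq]; exact N.2.2
    refine ⟨chartElem P E₁ e₁ ⟨M, m⟩ _ hk, chartElemHom P E₁ e₁ _ _ hk N q rfl hq,
      CategoryOfElements.ext _ _ _ (MorphismProperty.Over.Hom.ext ?_)⟩
    exact congrArg (fun k => k.hom.left.left) e

theorem initiallySmall_chartFiber : InitiallySmall.{u} (chartFiber P E₁ e₁).Elements := by
  haveI := isCofiltered_chartFiber P E₁ e₁
  obtain ⟨s, hs, hw⟩ := InitiallySmall.exists_small_weakly_initial_set.{u} P.fiber.Elements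
  let I := Σ j : s, {k : j.1.1 ⟶ E₁ // P.fiber.map k j.1.2 = e₁}
  haveI : Small.{u} I := inferInstance
  refine initiallySmall_of_small_weakly_initial_set
    (Set.range fun i : I => chartElem P E₁ e₁ i.1.1 i.2.1 i.2.2) fun N => ?_
  obtain ⟨j, hj, ⟨f, hf⟩⟩ := hw ⟨(chartF E₁).obj N.1, N.2.1⟩
  dsimp at hf
  have hk : P.fiber.map (f ≫ toBase E₁ N.1) j.2 = e₁ := by
    rw [Functor.map_comp_apply, hf]; exact N.2.2
  exact ⟨_, ⟨⟨⟨j, hj⟩, _, hk⟩, rfl⟩, ⟨chartElemHom P E₁ e₁ j _ hk N f rfl hf⟩⟩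

/-- the point of the small etale site of a chart induced by a point of the space -/
noncomputable def chartPoint : GrothendieckTopology.Point.{u} E₁.obj.left.left.smallEtaleTopology where
  fiber := chartFiber P E₁ e₁
  isCofiltered := isCofiltered_chartFiber P E₁ e₁
  initiallySmall := initiallySmall_chartFiber P E₁ e₁
  jointly_surjective {V} R hR x := by
    rw [Groth.Agent.EtSite.mem_et_iff] at hR
    choose W f w hf hw using hR
    have hcov : Sieve.ofArrows _ (fun a => (chartF E₁).map (f a)) ∈ etTop X ((chartF E₁).obj V) :=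
      ofArrows_mem_etTop _ _ fun a => ⟨a, w a, hw a⟩
    obtain ⟨Y, h, ⟨_, c, _, ⟨a⟩, hc⟩, y, hy⟩ := P.jointly_surjective _ hcov x.1
    have hy' : P.fiber.map ((chartF E₁).map (f a)) (P.fiber.map c y) = x.1 := by
      rw [← Functor.map_comp_apply, hc]; exact hy
    refine ⟨W a, f a, hf a, ⟨P.fiber.map c y, ?_⟩, Subtype.ext hy'⟩
    rw [← map_toBase E₁ (f a), Functor.map_comp_apply, hy']
    exact x.2

theorem exists_geometric_point (hX : IsAlgSpace X) :
    ∃ (p : FieldPt X) (hp : p.IsGeometric), Nonempty (P.fiber ≅ (etPoint hX p hp).fiber) := by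
  obtain ⟨⟨E₁, e₁⟩⟩ := IsCofiltered.nonempty (C := P.fiber.Elements)
  obtain ⟨Ω, _, _, ξ, ⟨θ⟩⟩ := Misc24.exists_geometric_iso (chartPoint P E₁ e₁)
  let K := AlgebraicClosure Ω
  let φ : Ω →+* K := algebraMap Ω K
  let ι := Spec.map (CommRingCat.ofHom φ)
  let T : Over S := Over.mk ((ι ≫ ξ) ≫ E₁.obj.left.hom)
  let a₁ : T ⟶ E₁.obj.left := Over.homMk (ι ≫ ξ) rfl
  let p : FieldPt X :=
    { K := K, str := (ι ≫ ξ) ≫ E₁.obj.left.hom
      val := (J S).uliftYonedaEquiv ((yon S).map a₁ ≫ E₁.obj.hom) }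
  have hp : p.IsGeometric := inferInstanceAs (IsAlgClosed K)
  let l₁ : (FieldPt.liftsTo p).obj E₁ := ⟨a₁, ((J S).uliftYonedaEquiv.symm_apply_apply _).symm⟩
  -- the element of the chart fibre attached to an element of the fibre
  have hQ : ∀ (E : EtOver X) (v : P.fiber.obj E), ∃ z : P.fiber.obj (EtOver.prodObj E E₁),
      P.fiber.map (EtOver.prodFst E E₁) z = v ∧ P.fiber.map (EtOver.prodSnd E E₁) z = e₁ :=
    fun E v => exists_prod_elem P v e₁
  choose z hz₁ hz₂ using hQ
  let W : EtOver X → E₁.obj.left.left.Etale := fun E => toEt E₁ (EtOver.prodSnd E E₁)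
  let y : ∀ E (v : P.fiber.obj E), (chartFiber P E₁ e₁).obj (W E) := fun E v =>
    (chartElem P E₁ e₁ ⟨_, z E v⟩ (EtOver.prodSnd E E₁) (hz₂ E v)).2
  let t : ∀ E (v : P.fiber.obj E), Spec (CommRingCat.of Ω) ⟶ (W E).left := fun E v => (θ.hom.app (W E) (y E v)).left
  have ht : ∀ E v, t E v ≫ (W E).hom = ξ := fun E v => Over.w (θ.hom.app (W E) (y E v))
  have hm : ∀ E v, (ι ≫ t E v) ≫ (EtOver.prodObj E E₁).obj.left.hom = T.hom := fun E v => by
    rw [← Over.w (EtOver.prodSnd E E₁).hom.left]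
    show (ι ≫ t E v) ≫ (W E).hom ≫ E₁.obj.left.hom = (ι ≫ ξ) ≫ E₁.obj.left.hom
    rw [← Category.assoc (ι ≫ t E v), Category.assoc ι, ht]
  let m : ∀ E (v : P.fiber.obj E), p.pt ⟶ (EtOver.prodObj E E₁).obj.left := fun E v =>
    Over.homMk (ι ≫ t E v) (hm E v)
  have hm₂ : ∀ E v, m E v ≫ (EtOver.prodSnd E E₁).hom.left = a₁ := fun E v => Over.OverMorphism.ext
    (show (ι ≫ t E v) ≫ (W E).hom = ι ≫ ξ by rw [Category.assoc, ht])
  let L : ∀ E (v : P.fiber.obj E), (FieldPt.liftsTo p).obj (EtOver.prodObj E E₁) := fun E v => ⟨m E v, by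
    rw [← EtOver.w (EtOver.prodSnd E E₁), ← Functor.map_comp_assoc, hm₂]
    exact l₁.2⟩
  let τ : ∀ E, P.fiber.obj E → (FieldPt.liftsTo p).obj E := fun E v =>
    (FieldPt.liftsTo p).map (EtOver.prodFst E E₁) (L E v)
  have hinj : ∀ E, Function.Injective (τ E) := fun E v v' h => by
    have hmm : m E v = m E v' := Functor.relativelyRepresentable.hom_ext' _ (by
      have h2 := (hm₂ E v).trans (hm₂ E v').symm
      exact h2) (congrArg Subtype.val h)
    have htt : t E v = t E v' := eq_of_comp_eq φ ξ (W E).hom (ht E v) (ht E v') (congrArg CommaMorphism.left hmm)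
    have hy : y E v = y E v' := (θ.app (W E)).toEquiv.injective (Over.OverMorphism.ext htt)
    have hz : z E v = z E v' := by
      have h1 : P.fiber.map (toG E₁ (EtOver.prodSnd E E₁)) (z E v) =
          P.fiber.map (toG E₁ (EtOver.prodSnd E E₁)) (z E v') := congrArg Subtype.val hy
      have h2 := congrArg (fun q => P.fiber.map (ofG E₁ (EtOver.prodSnd E E₁)) q) h1
      simp only [← Functor.map_comp_apply, toG_ofG, CategoryTheory.Functor.map_id] at h2
      exact h2
    rw [← hz₁ E v, hz, hz₁]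
  have hsurj : ∀ E, Function.Surjective (τ E) := fun E l => by
    obtain ⟨n, hn₁, hn₂⟩ := exists_lift_prod p l l₁
    have hnw : n.1.left ≫ (W E).hom = ι ≫ ξ := congrArg (fun q => q.1.left) hn₂
    obtain ⟨t₀, ht₀, ht₀'⟩ := exists_descend φ ξ (W E).hom n.1.left hnw
    obtain ⟨y₀, hy₀⟩ := (θ.app (W E)).toEquiv.surjective (Over.homMk t₀ ht₀)
    let z₀ := P.fiber.map (ofG E₁ (EtOver.prodSnd E E₁)) y₀.1
    have hz₀₂ : P.fiber.map (EtOver.prodSnd E E₁) z₀ = e₁ := by
      rw [← Functor.map_comp_apply, ofG_comp]; exact y₀.2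
    refine ⟨P.fiber.map (EtOver.prodFst E E₁) z₀, ?_⟩
    have hzz : z E (P.fiber.map (EtOver.prodFst E E₁) z₀) = z₀ :=
      prod_elem_ext P (hz₁ _ _) ((hz₂ _ _).trans hz₀₂.symm)
    have hyy : y E (P.fiber.map (EtOver.prodFst E E₁) z₀) = y₀ := Subtype.ext (by
      show P.fiber.map (toG E₁ _) (z E _) = y₀.1
      rw [hzz, ← Functor.map_comp_apply, ofG_toG, CategoryTheory.Functor.map_id]
      rfl)
    refine Eq.trans ?_ hn₁
    refine congrArg (fun q => (FieldPt.liftsTo p).map (EtOver.prodFst E E₁) q) ?_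
    refine Subtype.ext (Over.OverMorphism.ext ?_)
    show ι ≫ (θ.hom.app (W E) (y E _)).left = n.1.left
    rw [hyy]
    exact (congrArg (fun q => ι ≫ q.left) hy₀).trans ht₀'
  have hnat : ∀ {E E'} (g : E ⟶ E') (v : P.fiber.obj E), τ E' (P.fiber.map g v) = (FieldPt.liftsTo p).map g (τ E v) := by
    intro E E' g v
    let h : EtOver.prodObj E E₁ ⟶ EtOver.prodObj E' E₁ :=
      (BinaryFan.IsLimit.lift' (EtOver.prodIsLimit E' E₁) (EtOver.prodFst E E₁ ≫ g) (EtOver.prodSnd E E₁)).1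
    have hh := (BinaryFan.IsLimit.lift' (EtOver.prodIsLimit E' E₁) (EtOver.prodFst E E₁ ≫ g) (EtOver.prodSnd E E₁)).2
    have h₁ : h ≫ EtOver.prodFst E' E₁ = EtOver.prodFst E E₁ ≫ g := hh.1
    have h₂ : h ≫ EtOver.prodSnd E' E₁ = EtOver.prodSnd E E₁ := hh.2
    have hz : z E' (P.fiber.map g v) = P.fiber.map h (z E v) := prod_elem_ext P
      (by rw [hz₁, ← Functor.map_comp_apply, h₁, Functor.map_comp_apply, hz₁])
      (by rw [hz₂, ← Functor.map_comp_apply, h₂, hz₂])
    let H : W E ⟶ W E' := etHom E₁ (EtOver.prodSnd E E₁) (h ≫ toG E₁ (EtOver.prodSnd E' E₁))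
      (by rw [Category.assoc, toG_toBase, h₂])
    have hy : y E' (P.fiber.map g v) = (chartFiber P E₁ e₁).map H (y E v) := Subtype.ext (by
      show P.fiber.map (toG E₁ _) (z E' _) = P.fiber.map ((chartF E₁).map H) (P.fiber.map (toG E₁ _) (z E v))
      rw [hz, ← Functor.map_comp_apply, ← Functor.map_comp_apply, map_etHom])
    have ht' : t E' (P.fiber.map g v) = t E v ≫ H.left := by
      show (θ.hom.app (W E') (y E' _)).left = _
      rw [hy]
      exact congrArg (fun q => q.left) (congrArg (fun q => q (y E v)) (θ.hom.naturality H))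
    have hHl : H.left = h.hom.left.left := Category.comp_id _
    refine Subtype.ext ?_
    show m E' _ ≫ (EtOver.prodFst E' E₁).hom.left = (m E v ≫ (EtOver.prodFst E E₁).hom.left) ≫ g.hom.left
    have h₁' : h.hom.left ≫ (EtOver.prodFst E' E₁).hom.left = (EtOver.prodFst E E₁).hom.left ≫ g.hom.left :=
      congrArg (fun q => q.hom.left) h₁
    rw [Category.assoc, ← h₁', ← Category.assoc]
    refine congrArg (· ≫ _) (Over.OverMorphism.ext ?_)
    show ι ≫ t E' _ = (ι ≫ t E v) ≫ h.hom.left.left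
    rw [ht', hHl, Category.assoc]
  exact ⟨p, hp, ⟨NatIso.ofComponents (fun E => (Equiv.ofBijective (τ E) ⟨hinj E, hsurj E⟩).toIso)
    (fun g => ConcreteCategory.hom_ext _ _ fun v => hnat g v)⟩⟩

variable {A : Type u'} [Category.{v'} A] [HasColimitsOfSize.{w, w} A] {C : Type*} [Category C]
  {J : GrothendieckTopology C}

/-- isomorphic fibre functors give isomorphic stalk functors -/
noncomputable def sheafFiberIsoOfFiber (Φ Ψ : GrothendieckTopology.Point.{w} J) (e : Φ.fiber ≅ Ψ.fiber) :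
    Φ.sheafFiber (A := A) ≅ Ψ.sheafFiber :=
  let f : Ψ ⟶ Φ := ⟨e.hom⟩
  let g : Φ ⟶ Ψ := ⟨e.inv⟩
  have hfg : f ≫ g = 𝟙 _ := GrothendieckTopology.Point.hom_ext (e.inv_hom_id)
  have hgf : g ≫ f = 𝟙 _ := GrothendieckTopology.Point.hom_ext (e.hom_inv_id)
  Functor.isoWhiskerLeft (sheafToPresheaf J A)
    { hom := f.presheafFiber
      inv := g.presheafFiber
      hom_inv_id := by rw [← GrothendieckTopology.Point.Hom.presheafFiber_comp, hgf,
        GrothendieckTopology.Point.Hom.presheafFiber_id]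
      inv_hom_id := by rw [← GrothendieckTopology.Point.Hom.presheafFiber_comp, hfg,
        GrothendieckTopology.Point.Hom.presheafFiber_id] }

end Groth.Agent.EtPush14
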