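import Groth.Agent.Lib.EtPush14.Site
import Groth.Agent.Lib.AlgSpEt.Point

/-! Stalks of direct images along integral universally injective morphisms. -/

universe w u v₁ u₁ v₂ u₂

open CategoryTheory CategoryTheory.Limits AlgebraicGeometry Opposite

set_option linter.style.haveILetI false
set_option backward.isDefEq.respectTransparency false
set_option backward.isDefEq.respectTransparency.types false

namespace Groth.Agent.EtPush14

section Gen

variable {C : Type u₁} [Category.{v₁} C] {D : Type u₂} [Category.{v₂} D] {K : GrothendieckTopology D}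
  (G : C ⥤ D) (p : GrothendieckTopology.Point.{w} K) {Fq : C ⥤ Type w} (θ : Fq ≅ G ⋙ p.fiber)

/-- the functor on neighbourhoods induced by a lifting of fibres -/
def nbhdMap : Fq.Elements ⥤ p.fiber.Elements where
  obj N := ⟨G.obj N.1, θ.hom.app N.1 N.2⟩
  map {N N'} g := CategoryOfElements.homMk _ _ (G.map g.1) (by
    show p.fiber.map (G.map g.1) (θ.hom.app N.1 N.2) = θ.hom.app N'.1 N'.2
    refine Eq.trans ?_ (congrArg (fun t => θ.hom.app N'.1 t) g.2)
    exact (congrArg (fun t => t N.2) (θ.hom.naturality g.1)).symm)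
  map_id N := CategoryOfElements.ext _ _ _ (G.map_id _)
  map_comp g g' := CategoryOfElements.ext _ _ _ (G.map_comp _ _)

theorem initial_nbhdMap [G.IsCoverDense K] [G.IsLocallyFull K] [IsCofiltered Fq.Elements] :
    (nbhdMap G p θ).Initial := by
  have h₁ : ∀ M : p.fiber.Elements, ∃ N, Nonempty ((nbhdMap G p θ).obj N ⟶ M) := fun M => by
    obtain ⟨Z, a, ⟨⟨E, l, m, hlm⟩⟩, y, hy⟩ := p.jointly_surjective _ (Functor.IsCoverDense.is_cover (G := G) M.1) M.2
    obtain ⟨x, hx⟩ := ((Iso.app θ E).toEquiv).surjective (p.fiber.map l y)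
    have hx' : θ.hom.app E x = p.fiber.map l y := hx
    refine ⟨⟨E, x⟩, ⟨CategoryOfElements.homMk _ _ m ?_⟩⟩
    show p.fiber.map m (θ.hom.app E x) = M.2
    rw [hx', ← hy, ← hlm, Functor.map_comp]
    rfl
  refine Functor.initial_of_exists_of_isCofiltered _ h₁ fun {M N} s s' => ?_
  obtain ⟨N₁, ⟨k⟩⟩ := h₁ (IsCofiltered.eq s s')
  let k' : (nbhdMap G p θ).obj N₁ ⟶ (nbhdMap G p θ).obj N := k ≫ IsCofiltered.eqHom s s'
  have hk' : k' ≫ s = k' ≫ s' := by simp [k', IsCofiltered.eq_condition s s']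
  obtain ⟨Z, a, ⟨N₂, g, h, ⟨l, hl⟩, ha⟩, y, hy⟩ := p.jointly_surjective _
    (G.functorPushforward_imageSieve_mem K k'.1) ((nbhdMap G p θ).obj N₁).2
  obtain ⟨x, hx⟩ := ((Iso.app θ N₂).toEquiv).surjective (p.fiber.map h y)
  have hx' : θ.hom.app N₂ x = p.fiber.map h y := hx
  have hl₂ : Fq.map l x = N.2 := by
    refine ((Iso.app θ N.1).toEquiv).injective ?_
    show θ.hom.app N.1 (Fq.map l x) = θ.hom.app N.1 N.2
    refine (congrArg (fun t => t x) (θ.hom.naturality l)).trans ?_
    show p.fiber.map (G.map l) (θ.hom.app N₂ x) = _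
    rw [hl, hx']
    refine ((congrArg (fun t => t y) (p.fiber.map_comp h (G.map g ≫ k'.1))).symm).trans ?_
    rw [← Category.assoc, ← ha]
    refine (congrArg (fun t => t y) (p.fiber.map_comp a k'.1)).trans ?_
    exact (congrArg (fun t => p.fiber.map k'.1 t) hy).trans k'.2
  refine ⟨⟨N₂, x⟩, CategoryOfElements.homMk _ _ l hl₂, CategoryOfElements.ext _ _ _ ?_⟩
  show G.map l ≫ s.1 = G.map l ≫ s'.1
  have := congrArg (fun t => t.1) hk'
  rw [hl, Category.assoc, Category.assoc]
  exact congrArg (G.map g ≫ ·) this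

end Gen

open AlgSp Groth.Agent.AlgSpace

variable {S : Scheme.{u}} {Y X : Sp S} {f : Y ⟶ X} (hf : Representable f) (z : FieldPt Y)

/-- lifts of the image point are lifts of the point to the base change -/
noncomputable def liftIso : FieldPt.liftsTo (z.map f) ≅ EtOver.bc hf ⋙ FieldPt.liftsTo z :=
  NatIso.ofComponents (fun E => Equiv.toIso
    { toFun := fun v => ⟨hf.lift z.toHom v.1 (v.2.trans (FieldPt.toHom_map f z)).symm, hf.lift_fst _ _ _⟩
      invFun := fun w => ⟨w.1 ≫ EtOver.bcπ hf E, by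
        rw [Functor.map_comp, Category.assoc, ← (EtOver.isPullback_bcObj hf E).w, ← Category.assoc]
        exact (congrArg (· ≫ f) w.2).trans (FieldPt.toHom_map f z).symm⟩
      left_inv := fun v => Subtype.ext (hf.lift_snd _ _ _)
      right_inv := fun w => Subtype.ext (hf.hom_ext ((hf.lift_fst _ _ _).trans w.2.symm) (hf.lift_snd _ _ _)) })
    fun {E E'} g => by
      ext v
      refine Subtype.ext (hf.hom_ext ?_ ?_)
      · refine (hf.lift_fst _ _ _).trans ?_
        show z.toHom = (yon S).map (hf.lift z.toHom v.1 _ ≫ (EtOver.bcMap hf g).hom.left) ≫ hf.fst E'.obj.hom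
        rw [Functor.map_comp, Category.assoc, EtOver.map_bcMap_fst, hf.lift_fst]
      · refine (hf.lift_snd _ _ _).trans ?_
        show v.1 ≫ g.hom.left = (hf.lift z.toHom v.1 _ ≫ (EtOver.bcMap hf g).hom.left) ≫ hf.snd E'.obj.hom
        rw [Category.assoc, EtOver.bcMap_snd, ← Category.assoc, hf.lift_snd]

theorem exists_stalk_equiv (hY : IsAlgSpace Y) (hX : IsAlgSpace X) (h : IsIntUI hf) (hz : z.IsGeometric)
    (hz' : (z.map f).IsGeometric) (F : EtSh Y (Type (u + 1))) :
    ∃ φ : stalkEt (z.map f) ((pushEt hf (Type (u + 1))).obj F) ≃ stalkEt z F,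
      ∀ (N : EtNbhd (z.map f)) (s : F.obj.obj (op ((EtOver.bc hf).obj N.1))),
        φ (stalkEtι (z.map f) ((pushEt hf (Type (u + 1))).obj F) N s) =
          stalkEtι z F ((nbhdMap (EtOver.bc hf) (AlgSpEt.etPoint hY z hz) (liftIso hf z)).obj N) s := by
  haveI := coverDense_bc hf hX h
  haveI := locallyFull_bc hf h
  haveI : IsCofiltered (FieldPt.liftsTo (z.map f)).Elements := (AlgSpEt.etPoint hX (z.map f) hz').isCofiltered
  let Φ : EtNbhd (z.map f) ⥤ EtNbhd z := nbhdMap (EtOver.bc hf) (AlgSpEt.etPoint hY z hz) (liftIso hf z)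
  haveI : Φ.Initial := initial_nbhdMap (EtOver.bc hf) (AlgSpEt.etPoint hY z hz) (liftIso hf z)
  let e : stalkEtDiagram (z.map f) ((pushEt hf (Type (u + 1))).obj F) ≅ Φ.op ⋙ stalkEtDiagram z F :=
    NatIso.ofComponents (fun N => Iso.refl _) (fun _ => rfl)
  let ψ := HasColimit.isoOfNatIso e ≪≫ Functor.Final.colimitIso Φ.op (stalkEtDiagram z F)
  refine ⟨ψ.toEquiv, fun N s => ?_⟩
  show (stalkEtι (z.map f) ((pushEt hf (Type (u + 1))).obj F) N ≫ ψ.hom) s = _
  have : colimit.ι (stalkEtDiagram (z.map f) ((pushEt hf (Type (u + 1))).obj F)) (op N) ≫ ψ.hom =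
      colimit.ι (stalkEtDiagram z F) (op (Φ.obj N)) := by
    rw [Iso.trans_hom, HasColimit.isoOfNatIso_ι_hom_assoc, Functor.Final.ι_colimitIso_hom]
    exact Category.id_comp _
  exact congrArg (fun t => t s) this

end Groth.Agent.EtPush14
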